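import Cfsg.Agent.H282.Cob
import Cfsg.Agent.Mrg.Omega.SQ1.NodeI

/-!
# helper282: the 2-groups above `J = V₁V₂`
-/

set_option autoImplicit false
set_option linter.unusedSectionVars false

namespace Cfsg.Agent.H282

open Subgroup Cfsg Cfsg.Agent.Omega.NatPair Cfsg.Agent.Lib.SL2Mat
open Cfsg.Agent.Omega.CloseA (Co3 Ctx Amb Lin pr)
open Cfsg.Agent.Omega.SQ1.MidOne (Mid)

universe u v

variable {G : Type u} [Group G] {F : Type v} [Field F]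


namespace Dat

variable {L₁ L₂ V₁ V₂ J : Subgroup G} {π₁ π₂ : G → Fin 2 → F}
variable (h : Dat F L₁ L₂ V₁ V₂ J π₁ π₂) [Finite G] [Finite F] [CharP F 2]

include h

/-- 2-elements of `N(V₁)` over `J` normalise `J` -/
theorem TB {S : Subgroup G} (hS : IsPGroup 2 S) (hJ : J ≤ S) {t : G} (ht : t ∈ S)
    (htV : ∀ v ∈ V₁, t * v * t⁻¹ ∈ V₁) : ∀ j ∈ J, t * j * t⁻¹ ∈ J := by
  intro j hj
  have h1 : S ⊓ L₁ = J := h.s₁.syl (hS.to_le inf_le_left) (le_inf hJ h.s₁.JL) inf_le_right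
  rw [← h1]
  exact mem_inf.2 ⟨mul_mem (mul_mem ht (hJ hj)) (inv_mem ht), h.nrm₁ t htV j (h.s₁.JL hj)⟩

/-- `s` interchanges `V₁` and `V₂` -/
theorem mid {S : Subgroup G} (hS : IsPGroup 2 S) (hJ : J ≤ S) {s : G} (hs : s ∈ S)
    (hsJ : ∀ j ∈ J, s * j * s⁻¹ ∈ J) (hs1 : ∀ v ∈ V₁, s * v * s⁻¹ ∈ V₂) :
    Nonempty (Mid F (normalizer (V₁ : Set G)) (S ⊓ normalizer (V₁ : Set G)) J V₁ (V₁ ⊓ V₂) ⊥ L₁ s) := by
  have hs2 := h.perm₂ hsJ hs1
  have e1 : V₁.map (MulAut.conj s).toMonoidHom = V₂ := by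
    refine Subgroup.eq_of_le_of_card_ge ?_ ?_
    · rintro _ ⟨v, hv, rfl⟩
      exact hs1 v hv
    · rw [← h.card_eq]
      exact (Nat.card_congr (V₁.equivMapOfInjective _ (MulAut.conj s).injective).toEquiv).le
  have e2 : V₂.map (MulAut.conj s).toMonoidHom = V₁ := by
    refine Subgroup.eq_of_le_of_card_ge ?_ ?_
    · rintro _ ⟨v, hv, rfl⟩
      exact hs2 v hv
    · rw [h.card_eq]
      exact (Nat.card_congr (V₂.equivMapOfInjective _ (MulAut.conj s).injective).toEquiv).le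
  have i1 : ∀ w ∈ V₂, ∃ v ∈ V₁, w = s * v * s⁻¹ := by
    intro w hw
    rw [← e1] at hw
    obtain ⟨v, hv, rfl⟩ := hw
    exact ⟨v, hv, rfl⟩
  have i2 : ∀ v, s * v * s⁻¹ ∈ V₁ → v ∈ V₂ := by
    intro v hv
    rw [← e2] at hv
    obtain ⟨w, hw, e⟩ := hv
    have : w = v := (MulAut.conj s).injective e
    rwa [← this]
  have i3 : ∀ v, s * v * s⁻¹ ∈ V₂ → v ∈ V₁ := by
    intro v hv
    rw [← e1] at hv
    obtain ⟨w, hw, e⟩ := hv
    have : w = v := (MulAut.conj s).injective e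
    rwa [← this]
  have hT : ∀ t, t ∈ S ⊓ normalizer (V₁ : Set G) ↔ t ∈ S ∧ ∀ v ∈ V₁, t * v * t⁻¹ ∈ V₁ := fun t => by
    rw [mem_inf, mem_norm_iff]
  have hT2 : ∀ t ∈ S ⊓ normalizer (V₁ : Set G), ∀ v ∈ V₂, t * v * t⁻¹ ∈ V₂ := fun t ht =>
    h.perm₁ (h.TB hS hJ ((hT t).1 ht).1 ((hT t).1 ht).2) ((hT t).1 ht).2
  have hsi : ∀ v ∈ V₁, s⁻¹ * v * s ∈ V₂ := fun v hv => i2 _ (by
    have e : s * (s⁻¹ * v * s) * s⁻¹ = v := by group
    rwa [e])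
  exact ⟨
  { toNatSec := h.s₁.sec h.nrm₁
    TH := inf_le_right
    LH := fun l hl => mem_norm_iff.2 (h.s₁.Vn l hl)
    BT := fun j hj => (hT j).2 ⟨hJ hj, h.s₁.Vn j (h.s₁.JL hj)⟩
    BL := h.s₁.JL
    YB := h.s₁.VJ
    ZY := inf_le_left
    two := hS.to_le inf_le_left
    TL := fun t ht => h.nrm₁ t ((hT t).1 ht).2
    TB := fun t ht => h.TB hS hJ ((hT t).1 ht).1 ((hT t).1 ht).2
    TZ := fun t ht z hz => ⟨((hT t).1 ht).2 z hz.1, hT2 t ht z hz.2⟩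
    ind := h.s₁.ind
    liftL := h.s₁.lift
    kerL := fun l hl hv => h.s₁.ker l hl (h.s₁.act_one (h.s₁.Vn l hl) hv)
    upB := h.s₁.upJ
    cup := h.s₁.cup
    Zpi := fun y hy => by
      rw [mem_inf, and_iff_right hy]
      exact h.mem_iff hy
    cC := by
      intro c
      rw [mem_bot]
      constructor
      · rintro rfl
        exact ⟨one_mem _, fun l _ => by simp⟩
      · rintro ⟨hc, hc'⟩
        exact h.s₁.eq_one_of_cent hc hc'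
    Ycomm := fun x hx y hy => h.s₁.comm hx hy
    Ysq := fun y hy => h.s₁.sq hy
    BcZ := fun b hb z hz => h.fixJ hz.1 hz.2 b hb
    cent := by
      intro t ht hZ
      obtain ⟨k, hk⟩ := h.pow_of hS ((hT t).1 ht).1
      exact h.mem_J_of_cent ((hT t).1 ht).2 hk hZ
    sT := by
      intro t ht
      refine (hT _).2 ⟨mul_mem (mul_mem hs ((hT t).1 ht).1) (inv_mem hs), fun v hv => ?_⟩
      have e : s * t * s⁻¹ * v * (s * t * s⁻¹)⁻¹ = s * (t * (s⁻¹ * v * s) * t⁻¹) * s⁻¹ := by group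
      rw [e]
      exact hs2 _ (hT2 t ht _ (hsi v hv))
    ss := by
      refine (hT _).2 ⟨mul_mem hs hs, fun v hv => ?_⟩
      have e : s * s * v * (s * s)⁻¹ = s * (s * v * s⁻¹) * s⁻¹ := by group
      rw [e]
      exact hs2 _ (hs1 v hv)
    sB := hsJ
    sZ := fun z hz => ⟨hs2 z hz.2, hs1 z hz.1⟩
    prod := by
      intro b hb
      obtain ⟨y, hy, w, hw, rfl⟩ := h.prod b hb
      obtain ⟨v, hv, rfl⟩ := i1 w hw
      exact ⟨y, hy, v, hv, rfl⟩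
    inf := fun y hy hy' => ⟨hy, i2 y hy'⟩
    CC := fun c hc _ => mem_bot.1 hc }⟩

/-- the two cases -/
theorem cases {S : Subgroup G} (hS : IsPGroup 2 S) (hJ : J ≤ S) :
    (∀ s ∈ S, (∀ v ∈ V₁, s * v * s⁻¹ ∈ V₁) ∧ (∀ v ∈ V₂, s * v * s⁻¹ ∈ V₂)) ∨
      ∃ s ∈ S, Nonempty (Mid F (normalizer (V₁ : Set G)) (S ⊓ normalizer (V₁ : Set G)) J V₁ (V₁ ⊓ V₂) ⊥ L₁ s) := by
  by_cases hB : ∃ s ∈ S, (∀ j ∈ J, s * j * s⁻¹ ∈ J) ∧ ∀ v ∈ V₁, s * v * s⁻¹ ∈ V₂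
  · obtain ⟨s, hs, hsJ, hs1⟩ := hB
    exact Or.inr ⟨s, hs, h.mid hS hJ hs hsJ hs1⟩
  · left
    have hf : Fact (Nat.Prime 2) := ⟨Nat.prime_two⟩
    set T : Subgroup G := S ⊓ normalizer (V₁ : Set G) with hTdef
    have hT : ∀ t, t ∈ T ↔ t ∈ S ∧ ∀ v ∈ V₁, t * v * t⁻¹ ∈ V₁ := fun t => by
      rw [hTdef, mem_inf, mem_norm_iff]
    have hTJ : ∀ t ∈ T, ∀ j ∈ J, t * j * t⁻¹ ∈ J := fun t ht => h.TB hS hJ ((hT t).1 ht).1 ((hT t).1 ht).2
    have hT2 : ∀ t ∈ T, ∀ v ∈ V₂, t * v * t⁻¹ ∈ V₂ := fun t ht =>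
      h.perm₁ (hTJ t ht) ((hT t).1 ht).2
    have hJT : J ≤ T := fun j hj => (hT j).2 ⟨hJ hj, h.s₁.Vn j (h.s₁.JL hj)⟩
    have hT2g : IsPGroup 2 T := hS.to_le inf_le_left
    have ha : Amb T J (V₁ ⊓ V₂) (pr V₁ V₂) :=
      h.co3.amb (h.ctx hT2g hJT (fun t ht => ((hT t).1 ht).2) hT2) hT2g
    have hne : ∀ i, ∃ a ∈ pr V₁ V₂ i, a ∉ V₁ ⊓ V₂ := by
      rintro (_ | _)
      · obtain ⟨u, hu, hu2⟩ := h.exists_out
        exact ⟨u, hu, fun hc => hu2 hc.2⟩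
      · obtain ⟨u, hu, hu2⟩ := h.symm.exists_out
        exact ⟨u, hu, fun hc => hu2 hc.1⟩
    have hST : S ≤ T := by
      by_contra hc
      have hnil : Group.IsNilpotent ↥S := hS.isNilpotent
      have h1 : T.subgroupOf S < ⊤ := by
        rw [lt_top_iff_ne_top]
        intro h2
        exact hc (subgroupOf_eq_top.1 h2)
      have h2 := Group.normalizerCondition_of_isNilpotent (G := ↥S) _ h1
      obtain ⟨g, hg, hgT⟩ := Set.exists_of_ssubset h2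
      apply hgT
      rw [SetLike.mem_coe, mem_subgroupOf]
      have h3 : ∀ x ∈ J, (g : G) * x * (g : G)⁻¹ ∈ T := by
        intro x hx
        have h4 := (mem_normalizer_iff.1 hg ⟨x, hJ hx⟩).1 (by rw [mem_subgroupOf]; exact hJT hx)
        rwa [mem_subgroupOf] at h4
      have h4 := (ha.weak hne h3).2
      refine (hT _).2 ⟨g.2, ?_⟩
      exact (h.perm h4).resolve_right fun h5 => hB ⟨g, g.2, h4, h5⟩
    exact fun s hs => ⟨((hT s).1 (hST hs)).2, hT2 s (hST hs)⟩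

/-- **`q = 4`** -/
theorem rank (hF : Nat.card F = 4) : SectionalPRankLE 2 4 G := by
  have hf : Fact (Nat.Prime 2) := ⟨Nat.prime_two⟩
  obtain ⟨S, hS⟩ := h.isPGroup_J.exists_le_sylow
  rcases h.cases S.isPGroup' hS with hA | ⟨s, hs, ⟨M⟩⟩
  · exact h.co3.rank_four S (h.ctx S.isPGroup' hS (fun s hs => (hA s hs).1) fun s hs => (hA s hs).2) hF
  · have hb := M.base S.isPGroup' inf_le_left hs (fun x hx hxa => ⟨hx, mem_norm_iff.2 hxa⟩) (by rw [hF])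
    rw [hF] at hb
    refine Cfsg.Agent.Omega.SQ1.RankFourOf.rank_four_of_sylow hb ?_
    rw [h.co3.card_D, hF]

end Dat

end Cfsg.Agent.H282
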