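import Cfsg.Agent.H282.Cob
import Cfsg.Agent.ZN.Facts
import Cfsg.Agent.MinSimple.Basic

/-!
# helper282: `C_G(V₁) = V₁`, `C_G(V₂) = V₂` in groups of characteristic 2 type

`Sit`: a pair with `N_G(V_i) ≤ N_G(L_i)`, and no nontrivial 2-subgroup is normalised by `N_G(L₁)` and centralised by
`L₁` and `L₂`.
-/

set_option autoImplicit false
set_option linter.unusedSectionVars false

namespace Cfsg.Agent.H282

open Subgroup Cfsg Cfsg.Agent.Omega.NatPair Cfsg.Agent.Lib.SL2Mat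
open Cfsg.Agent.ZN (o2 o2_le isPGroup_o2 le_normalizer_o2 le_o2 normalizer_le_normalizer_o2)

universe u v

variable {G : Type u} [Group G] {F : Type v} [Field F]

theorem norm_cent {X : Subgroup G} {g : G} (hg : g ∈ normalizer (X : Set G)) {y : G}
    (hy : ∀ x ∈ X, y * x = x * y) : ∀ x ∈ X, g * y * g⁻¹ * x = x * (g * y * g⁻¹) := by
  intro x hx
  have h1 : g⁻¹ * x * g ∈ X := by
    have := (mem_normalizer_iff.1 (inv_mem hg) x).1 hx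
    rwa [inv_inv] at this
  have h2 := hy _ h1
  calc g * y * g⁻¹ * x = g * (y * (g⁻¹ * x * g)) * g⁻¹ := by group
    _ = g * ((g⁻¹ * x * g) * y) * g⁻¹ := by rw [h2]
    _ = _ := by group

theorem norm_le_norm_cent [Finite G] {X : Subgroup G} :
    normalizer (X : Set G) ≤ normalizer (centralizer (X : Set G) : Set G) := by
  intro g hg
  rw [mem_norm_iff]
  intro y hy
  rw [mem_centralizer_iff] at hy ⊢
  intro x hx
  exact (norm_cent hg (fun x hx => (hy x hx).symm) x hx).symm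

/-- the situation of the analysis of centralisers -/
structure Sit (F : Type v) [Field F] (L₁ L₂ V₁ V₂ J : Subgroup G) (π₁ π₂ : G → Fin 2 → F) : Prop extends
    Pair F L₁ L₂ V₁ V₂ J π₁ π₂ where
  ct : IsCharacteristicTwoType G
  nrm₁ : ∀ g, (∀ v ∈ V₁, g * v * g⁻¹ ∈ V₁) → ∀ l ∈ L₁, g * l * g⁻¹ ∈ L₁
  nrm₂ : ∀ g, (∀ v ∈ V₂, g * v * g⁻¹ ∈ V₂) → ∀ l ∈ L₂, g * l * g⁻¹ ∈ L₂

namespace Sit

variable {L₁ L₂ V₁ V₂ J : Subgroup G} {π₁ π₂ : G → Fin 2 → F}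

theorem symm (h : Sit F L₁ L₂ V₁ V₂ J π₁ π₂) : Sit F L₂ L₁ V₂ V₁ J π₂ π₁ where
  toPair := h.toPair.symm
  ct := h.ct
  nrm₁ := h.nrm₂
  nrm₂ := h.nrm₁

variable (h : Sit F L₁ L₂ V₁ V₂ J π₁ π₂) [Finite G] [Finite F] [CharP F 2]

include h

/-- `C_G(J) = Z C_G(L₁)` -/
theorem cob {c : G} (hc : ∀ j ∈ J, c * j = j * c) :
    ∃ u ∈ V₁ ⊓ V₂, ∀ l ∈ L₁, (u⁻¹ * c) * l = l * (u⁻¹ * c) := by
  have h1 : ∀ v ∈ V₁, c * v * c⁻¹ ∈ V₁ := fun v hv => by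
    rw [hc v (h.s₁.VJ hv), mul_inv_cancel_right]; exact hv
  obtain ⟨u, hu, huJ, hul⟩ := h.s₁.cob hc (h.nrm₁ c h1)
  exact ⟨u, h.mem_of_cent (h.s₁.VJ hu) huJ, hul⟩

/-- `O₂(C_G(L₂)) ≤ C_G(L₁)` -/
theorem o2_le_cent {ω : F} (hω : ω ≠ 0) (hω1 : ω ≠ 1) :
    o2 (centralizer (L₂ : Set G)) ≤ centralizer (L₁ : Set G) := by
  intro y hy
  have hyC := mem_centralizer_iff.1 (o2_le _ hy)
  obtain ⟨u, hu, hul⟩ := h.cob (c := y) fun j hj => (hyC j (h.s₂.JL hj)).symm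
  obtain ⟨t, ht, htJ, htω⟩ := h.s₁.exists_torus hω
  have ht1 : ∀ v ∈ V₁, t * v * t⁻¹ ∈ V₁ := h.s₁.Vn t ht
  have ht2 := h.perm₁ htJ ht1
  have htL : t ∈ normalizer (L₂ : Set G) := mem_norm_iff.2 (h.nrm₂ t ht2)
  have htR := normalizer_le_normalizer_o2 _ (norm_le_norm_cent htL)
  have h1 : t * y * t⁻¹ * y⁻¹ ∈ o2 (centralizer (L₂ : Set G)) :=
    mul_mem (mem_norm_iff.1 htR y hy) (inv_mem hy)
  have e : t * y * t⁻¹ * y⁻¹ = t * u * t⁻¹ * u⁻¹ := by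
    have e1 : y = u * (u⁻¹ * y) := by group
    have e2 := hul t ht
    calc t * y * t⁻¹ * y⁻¹ = t * (u * (u⁻¹ * y)) * t⁻¹ * (u * (u⁻¹ * y))⁻¹ := by rw [← e1]
      _ = t * u * ((u⁻¹ * y) * t⁻¹) * (u⁻¹ * y)⁻¹ * u⁻¹ := by group
      _ = t * u * (t⁻¹ * (t * ((u⁻¹ * y) * t⁻¹))) * (u⁻¹ * y)⁻¹ * u⁻¹ := by rw [inv_mul_cancel_left]
      _ = t * u * (t⁻¹ * ((t * (u⁻¹ * y)) * t⁻¹)) * (u⁻¹ * y)⁻¹ * u⁻¹ := by rw [← mul_assoc t]
      _ = t * u * (t⁻¹ * (((u⁻¹ * y) * t) * t⁻¹)) * (u⁻¹ * y)⁻¹ * u⁻¹ := by rw [e2]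
      _ = _ := by group
  have h2 : t * u * t⁻¹ * u⁻¹ ∈ V₁ ⊓ V₂ :=
    mem_inf.2 ⟨mul_mem (ht1 u hu.1) (inv_mem hu.1), mul_mem (ht2 u hu.2) (inv_mem hu.2)⟩
  have h3 : t * u * t⁻¹ * u⁻¹ = 1 := by
    apply h.s₂.eq_one_of_cent h2.2
    intro l hl
    rw [← e]
    exact mem_centralizer_iff.1 (o2_le _ h1) l hl
  have h4 : u = 1 := by
    have h5 := htω u hu.1
    rw [mul_inv_eq_one.1 h3] at h5
    have h6 := congrFun h5 0
    rw [ap_zero', dg_00, dg_01, zero_mul, add_zero] at h6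
    apply h.s₁.inj u hu.1
    apply ext2
    · have h7 : (ω - 1) * π₁ u 0 = 0 := by linear_combination -h6
      exact (mul_eq_zero.1 h7).resolve_left (sub_ne_zero.2 hω1)
    · exact (h.mem_iff hu.1).1 hu.2
  rw [mem_centralizer_iff]
  intro l hl
  have := hul l hl
  rw [h4, inv_one, one_mul] at this
  exact this.symm

/-- `O₂(C_G(L₂)) ≤ O₂(C_G(L₁))` -/
theorem o2_le_o2 {ω : F} (hω : ω ≠ 0) (hω1 : ω ≠ 1) :
    o2 (centralizer (L₂ : Set G)) ≤ o2 (centralizer (L₁ : Set G)) := by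
  refine le_o2 (h.o2_le_cent hω hω1) (isPGroup_o2 _) ?_
  intro g hg
  apply normalizer_le_normalizer_o2
  apply norm_le_norm_cent
  rw [mem_norm_iff]
  apply h.nrm₂
  intro v hv
  rw [← mem_centralizer_iff.1 hg v (h.s₁.JL (h.s₂.VJ hv)), mul_inv_cancel_right]
  exact hv

/-- `C_G(L₁) = 1` if `O₂(C_G(L₁)) = 1` -/
theorem cent_L (h0 : o2 (centralizer (L₁ : Set G)) = ⊥) : centralizer (L₁ : Set G) = ⊥ := by
  set C := centralizer (L₁ : Set G) with hC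
  set M := normalizer (V₁ : Set G) with hM
  have hV2 : IsPGroup 2 V₁ := h.isPGroup_J.to_le h.s₁.VJ
  have hV1 : V₁ ≠ ⊥ := by
    obtain ⟨z, hz, hz1⟩ := h.exists_z
    intro h1
    have h2 : z ∈ V₁ := (mem_inf.1 hz).1
    rw [h1, mem_bot] at h2
    exact hz1 h2
  have hch := MinSimple.Basic.char2_normalizer h.ct hV2 hV1
  have hCM : C ≤ M := by
    intro g hg
    rw [hM, mem_norm_iff]
    intro v hv
    rw [← mem_centralizer_iff.1 hg v (h.s₁.VL hv), mul_inv_cancel_right]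
    exact hv
  have hMC : M ≤ normalizer (C : Set G) := by
    intro g hg
    apply norm_le_norm_cent
    rw [mem_norm_iff]
    exact h.nrm₁ g (mem_norm_iff.1 hg)
  have hI : C ⊓ o2 M = ⊥ := by
    rw [eq_bot_iff, ← h0]
    refine le_o2 inf_le_left ((isPGroup_o2 M).to_le inf_le_right) ?_
    intro g hg
    rw [mem_norm_iff]
    intro k hk
    exact mem_inf.2 ⟨mul_mem (mul_mem hg hk.1) (inv_mem hg), mem_norm_iff.1 (le_normalizer_o2 M (hCM hg)) k hk.2⟩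
  rw [eq_bot_iff, ← hI]
  intro x hx
  refine mem_inf.2 ⟨hx, hch (mem_inf.2 ⟨hCM hx, mem_centralizer_iff.2 ?_⟩)⟩
  intro q hq
  have h1 : q * x * q⁻¹ * x⁻¹ ∈ C ⊓ o2 M := by
    refine mem_inf.2 ⟨mul_mem (mem_norm_iff.1 (hMC (o2_le M hq)) x hx) (inv_mem hx), ?_⟩
    have e : q * x * q⁻¹ * x⁻¹ = q * (x * q⁻¹ * x⁻¹) := by group
    rw [e]
    exact mul_mem hq (mem_norm_iff.1 (le_normalizer_o2 M (hCM hx)) _ (inv_mem hq))
  rw [hI, mem_bot, mul_inv_eq_one, mul_inv_eq_iff_eq_mul] at h1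
  exact h1

/-- `C_G(V₁) = V₁` if `C_G(L₁) = 1` -/
theorem cent_V (h0 : centralizer (L₁ : Set G) = ⊥) {d : G} (hd : ∀ v ∈ V₁, d * v = v * d) : d ∈ V₁ := by
  have hdV : ∀ v ∈ V₁, d * v * d⁻¹ ∈ V₁ := fun v hv => by
    rw [hd v hv, mul_inv_cancel_right]; exact hv
  have hdL := h.nrm₁ d hdV
  have hdd : d * d = 1 := by
    rw [← mem_bot, ← h0, mem_centralizer_iff]
    intro l hl
    exact (h.s₁.sq_cent hd hdL hl).symm
  have hdJ : ∀ j ∈ J, d * j * d⁻¹ ∈ J := by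
    intro j hj
    have h1 := h.s₁.VJ (h.s₁.del_mem hd hdL (h.s₁.JL hj))
    have h2 := mul_mem h1 hj
    rwa [inv_mul_cancel_right] at h2
  have hd2 := h.perm₁ hdJ hdV
  obtain ⟨c, hc⟩ := h.s₂.lin_of h.nrm₂ hd2 (k := 1) (by rw [pow_one, pow_two, hdd]) fun v hv hv0 =>
    hd v ((h.symm.mem_iff hv).2 hv0)
  obtain ⟨b, hb, hbc⟩ := h.s₂.cup c
  obtain ⟨a, ha, b', hb', rfl⟩ := h.prod b hb
  -- `a⁻¹ d` centralises `J`
  have key : ∀ v ∈ V₂, (a⁻¹ * d) * v = v * (a⁻¹ * d) := by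
    intro v hv
    have h1 : d * v * d⁻¹ = a * b' * v * (a * b')⁻¹ :=
      h.s₂.eq_of (hd2 v hv) (h.s₂.Vn _ (h.s₂.JL hb) v hv) (by rw [hc v hv, hbc v hv])
    have h2 : a * b' * v * (a * b')⁻¹ = a * v * a⁻¹ := by
      calc a * b' * v * (a * b')⁻¹ = a * (b' * v * b'⁻¹) * a⁻¹ := by group
        _ = a * v * a⁻¹ := by rw [h.s₂.conj_cancel hb' hv]
    rw [h2] at h1
    calc a⁻¹ * d * v = a⁻¹ * (d * v * d⁻¹) * d := by group
      _ = a⁻¹ * (a * v * a⁻¹) * d := by rw [h1]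
      _ = v * (a⁻¹ * d) := by group
  have key1 : ∀ v ∈ V₁, (a⁻¹ * d) * v = v * (a⁻¹ * d) := by
    intro v hv
    rw [mul_assoc, hd v hv, ← mul_assoc, h.s₁.comm (inv_mem ha) hv, mul_assoc]
  have keyJ : ∀ j ∈ J, (a⁻¹ * d) * j = j * (a⁻¹ * d) := by
    intro j hj
    obtain ⟨x, hx, y, hy, rfl⟩ := h.prod j hj
    rw [← mul_assoc, key1 x hx, mul_assoc, key y hy, ← mul_assoc, mul_assoc x y]
  obtain ⟨u, hu, hul⟩ := h.cob keyJ
  have h1 : u⁻¹ * (a⁻¹ * d) = 1 := by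
    rw [← mem_bot, ← h0, mem_centralizer_iff]
    intro l hl
    exact (hul l hl).symm
  have h2 : d = a * u := by
    have := inv_mul_eq_one.1 h1
    rw [this]; group
  rw [h2]
  exact mul_mem ha hu.1

/-- the output -/
theorem dat {ω : F} (hω : ω ≠ 0) (hω1 : ω ≠ 1)
    (hO : ∀ R : Subgroup G, IsPGroup 2 R → normalizer (L₁ : Set G) ≤ normalizer (R : Set G) →
      R ≤ centralizer (L₁ : Set G) → R ≤ centralizer (L₂ : Set G) → R = ⊥) : Dat F L₁ L₂ V₁ V₂ J π₁ π₂ := by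
  have e : o2 (centralizer (L₂ : Set G)) = o2 (centralizer (L₁ : Set G)) :=
    le_antisymm (h.o2_le_o2 hω hω1) (h.symm.o2_le_o2 hω hω1)
  have h1 : o2 (centralizer (L₁ : Set G)) = ⊥ := by
    refine hO _ (isPGroup_o2 _) (norm_le_norm_cent.trans (normalizer_le_normalizer_o2 _)) (o2_le _) ?_
    rw [← e]
    exact o2_le _
  exact
  { toPair := h.toPair
    cen₁ := fun g hg => h.cent_V (h.cent_L h1) hg
    cen₂ := fun g hg => h.symm.cent_V (h.symm.cent_L (e.trans h1)) hg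
    nrm₁ := h.nrm₁
    nrm₂ := h.nrm₂ }

end Sit

end Cfsg.Agent.H282
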