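import Cfsg.Agent.H282.Case
import Cfsg.Agent.H282.Loc
import Cfsg.Agent.ZN.Facts
import Cfsg.Agent.MinSimple.Basic
import Cfsg.Agent.TypeL3.Back
import Cfsg.Agent.TwoFusion.SectionalRank

/-!
# helper282: `J` a Sylow 2-subgroup of a group of characteristic 2 type: the local data of type `L₃(q)`
-/

set_option autoImplicit false
set_option linter.unusedSectionVars false

namespace Cfsg.Agent.H282

open Subgroup Cfsg Cfsg.Agent.Omega.NatPair Cfsg.Agent.Lib.SL2Mat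
open Cfsg.Agent.ZN (o2 o2_le isPGroup_o2 le_normalizer_o2 le_o2 normalizer_le_normalizer_o2)
open Cfsg.Agent.TypeL3.Local (LThreeLocal LThreeCoord)

universe u v

variable {G : Type u} [Group G] {F : Type v} [Field F]

namespace Pair

variable {L₁ L₂ V₁ V₂ J : Subgroup G} {π₁ π₂ : G → Fin 2 → F}
variable (h : Pair F L₁ L₂ V₁ V₂ J π₁ π₂)

include h

theorem sup_eq : V₁ ⊔ V₂ = J := by
  apply le_antisymm (sup_le h.s₁.VJ h.s₂.VJ)
  intro j hj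
  obtain ⟨a, ha, b, hb, rfl⟩ := h.prod j hj
  exact mul_mem (mem_sup_left ha) (mem_sup_right hb)

/-- coordinates of type `L₃(F)` -/
theorem coord [CharP F 2] : ∃ x y z : F → G, LThreeCoord V₁ V₂ x y z := by
  obtain ⟨x₀, hx1, hx2, hx3⟩ := Cfsg.Agent.Omega.CloseA.IdFour.sect (Q := V₁) (x := fun u => π₁ u 1)
    (fun u hu => h.s₁.sq hu) h.co3.x_mul h.co3.x_surj
  obtain ⟨y₀, hy1, hy2, hy3⟩ := Cfsg.Agent.Omega.CloseA.IdFour.sect (Q := V₂) (x := fun v => bet J V₁ π₁ v)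
    (fun u hu => h.s₂.sq hu) h.co3.y_mul h.co3.y_surj
  have hz : ∀ a : F, ∃ u ∈ V₁ ⊓ V₂, π₁ u 0 = a := h.co3.z_surj
  choose z₀ hz1 hz2 using hz
  have zeq : ∀ u ∈ V₁ ⊓ V₂, ∀ v ∈ V₁ ⊓ V₂, π₁ u 0 = π₁ v 0 → u = v := by
    intro u hu v hv e
    exact h.s₁.eq_of hu.1 hv.1 (ext2 e (((h.mem_iff hu.1).1 hu.2).trans ((h.mem_iff hv.1).1 hv.2).symm))
  refine ⟨x₀, y₀, z₀, hx3, hy3, ?_, ?_, ?_, ?_⟩
  · intro a b
    apply zeq _ (hz1 _) _ (mul_mem (hz1 a) (hz1 b))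
    rw [h.co3.z_mul _ (hz1 a) _ (hz1 b)]
    show π₁ (z₀ (a + b)) 0 = π₁ (z₀ a) 0 + π₁ (z₀ b) 0
    rw [hz2, hz2, hz2]
  · intro g
    constructor
    · intro hg
      have h1 : (x₀ (π₁ g 1))⁻¹ * g ∈ V₁ ⊓ V₂ := by
        refine (h.co3.x_ker _ (mul_mem (inv_mem (hx1 _)) hg)).1 ?_
        show π₁ ((x₀ (π₁ g 1))⁻¹ * g) 1 = 0
        rw [h.s₁.mul _ (inv_mem (hx1 _)) g hg, h.s₁.map_inv (hx1 _), Pi.add_apply, Pi.neg_apply]
        have : π₁ (x₀ (π₁ g 1)) 1 = π₁ g 1 := hx2 (π₁ g 1)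
        rw [this, neg_add_cancel]
      refine ⟨π₁ g 1, π₁ ((x₀ (π₁ g 1))⁻¹ * g) 0, ?_⟩
      rw [← zeq _ h1 _ (hz1 _) (hz2 _).symm, mul_inv_cancel_left]
    · rintro ⟨a, c, rfl⟩
      exact mul_mem (hx1 a) (mem_inf.1 (hz1 c)).1
  · intro g
    constructor
    · intro hg
      have hy1' : ∀ a, y₀ a ∈ J := fun a => h.s₂.VJ (hy1 a)
      have hgJ : g ∈ J := h.s₂.VJ hg
      have h1 : (y₀ (bet J V₁ π₁ g))⁻¹ * g ∈ V₁ ⊓ V₂ := by
        refine (h.co3.y_ker _ (mul_mem (inv_mem (hy1 _)) hg)).1 ?_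
        show bet J V₁ π₁ ((y₀ (bet J V₁ π₁ g))⁻¹ * g) = 0
        have h2 := h.s₁.bet_mul (hy1' (bet J V₁ π₁ g)) (mul_mem (inv_mem (hy1' (bet J V₁ π₁ g))) hgJ)
        rw [mul_inv_cancel_left] at h2
        have : bet J V₁ π₁ (y₀ (bet J V₁ π₁ g)) = bet J V₁ π₁ g := hy2 (bet J V₁ π₁ g)
        rw [this] at h2
        exact left_eq_add.1 h2
      refine ⟨bet J V₁ π₁ g, π₁ ((y₀ (bet J V₁ π₁ g))⁻¹ * g) 0, ?_⟩
      rw [← zeq _ h1 _ (hz1 _) (hz2 _).symm, mul_inv_cancel_left]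
    · rintro ⟨a, c, rfl⟩
      exact mul_mem (hy1 a) (mem_inf.1 (hz1 c)).2
  · intro a b
    apply zeq _ (h.co3.mem _ (hx1 a) _ (hy1 b)) _ (hz1 _)
    have h1 := h.co3.com _ (hx1 a) _ (hy1 b)
    have h2 : π₁ (x₀ a) 1 = a := hx2 a
    have h3 : bet J V₁ π₁ (y₀ b) = b := hy2 b
    rw [h1, h2, h3, hz2]

end Pair

namespace Dat

variable {L₁ L₂ V₁ V₂ J : Subgroup G} {π₁ π₂ : G → Fin 2 → F}
variable (h : Dat F L₁ L₂ V₁ V₂ J π₁ π₂) [Finite G] [Finite F] [CharP F 2]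

include h

/-- `N(J) ≤ N(V₁)` if `J` is a maximal 2-subgroup -/
theorem normJ (S : Sylow 2 G) (hS : (S : Subgroup G) = J) {g : G} (hg : ∀ j ∈ J, g * j * g⁻¹ ∈ J) :
    ∀ v ∈ V₁, g * v * g⁻¹ ∈ V₁ := by
  have hf : Fact (Nat.Prime 2) := ⟨Nat.prime_two⟩
  rcases h.perm hg with h1 | h1
  · exact h1
  · have h2 := h.perm₂ hg h1
    have hgg : ∀ v ∈ V₁, (g * g) * v * (g * g)⁻¹ ∈ V₁ := fun v hv => by
      have e : (g * g) * v * (g * g)⁻¹ = g * (g * v * g⁻¹) * g⁻¹ := by group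
      rw [e]
      exact h2 _ (h1 v hv)
    have hggN : g * g ∈ normalizer (V₁ : Set G) := mem_norm_iff.2 hgg
    obtain ⟨k, m, hm, hrm⟩ := Nat.exists_eq_two_pow_mul_odd (n := orderOf g) (orderOf_pos g).ne'
    obtain ⟨j, rfl⟩ := hm
    have hg2 : IsPGroup 2 (zpowers (g ^ (2 * j + 1))) := by
      rw [IsPGroup.iff_card]
      refine ⟨k, ?_⟩
      rw [Nat.card_zpowers, orderOf_pow, hrm, Nat.gcd_eq_right (Dvd.intro_left _ rfl)]
      exact Nat.mul_div_cancel _ (by omega)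
    have hgJ : g ∈ normalizer (J : Set G) := mem_norm_iff.2 hg
    have hN : zpowers (g ^ (2 * j + 1)) ≤ normalizer (J : Set G) := zpowers_le.2 (pow_mem hgJ _)
    have h3 : IsPGroup 2 (J ⊔ zpowers (g ^ (2 * j + 1)) : Subgroup G) :=
      IsPGroup.to_sup_of_normal_left' h.isPGroup_J hg2 hN
    have h4 := S.is_maximal' h3 (by rw [hS]; exact le_sup_left)
    have h5 : g ^ (2 * j + 1) ∈ J := by
      rw [← hS]
      rw [← h4]
      exact mem_sup_right (mem_zpowers _)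
    have h6 : g ^ (2 * j + 1) ∈ normalizer (V₁ : Set G) := mem_norm_iff.2 (h.s₁.Vn _ (h.s₁.JL h5))
    have h7 : g = ((g * g) ^ j)⁻¹ * g ^ (2 * j + 1) := by
      rw [← pow_two, ← pow_mul, pow_succ, inv_mul_cancel_left]
    have h8 : g ∈ normalizer (V₁ : Set G) := by
      rw [h7]
      exact mul_mem (inv_mem (pow_mem hggN j)) h6
    exact mem_norm_iff.1 h8

/-- centralisers of the elements of `Z` normalise `J` -/
theorem cent_Z (hG : IsCharacteristicTwoType G) (S : Sylow 2 G) (hS : (S : Subgroup G) = J) {z : G}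
    (hz : z ∈ V₁ ⊓ V₂) (hz1 : z ≠ 1) {g : G} (hg : g * z = z * g) : ∀ j ∈ J, g * j * g⁻¹ ∈ J := by
  have hf : Fact (Nat.Prime 2) := ⟨Nat.prime_two⟩
  set X := centralizer ({z} : Set G) with hX
  have memX : ∀ {x : G}, x ∈ X ↔ x * z = z * x := by
    intro x; rw [hX, mem_centralizer_singleton_iff]
  have hzz : z ^ 2 = 1 := by rw [pow_two]; exact h.s₁.sq hz.1
  have hch := MinSimple.Basic.char2_centralizer hG hzz hz1
  set R := o2 X with hR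
  have hJX : J ≤ X := fun j hj => memX.2 (h.fixJ hz.1 hz.2 j hj)
  have maxJ : ∀ K : Subgroup G, IsPGroup 2 K → J ≤ K → K = J := by
    intro K hK hJK
    have h1 := S.is_maximal' hK (by rw [hS]; exact hJK)
    rw [h1]; exact hS
  have hRJ : R ≤ J := by
    have h1 : IsPGroup 2 (R ⊔ J : Subgroup G) :=
      IsPGroup.to_sup_of_normal_left' (isPGroup_o2 X) h.isPGroup_J (hJX.trans (le_normalizer_o2 X))
    rw [← maxJ _ h1 le_sup_right]
    exact le_sup_left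
  have hXR := le_normalizer_o2 X
  have hZR : V₁ ⊓ V₂ ≤ R := by
    intro u hu
    refine hch (mem_inf.2 ⟨hJX (h.s₁.VJ hu.1), mem_centralizer_iff.2 fun r hr => ?_⟩)
    exact h.fixJ hu.1 hu.2 r (hRJ hr)
  -- `W = Ω₁(Z(R))`
  let W : Subgroup G :=
    { carrier := {w | w ∈ R ∧ w * w = 1 ∧ ∀ r ∈ R, r * w = w * r}
      one_mem' := ⟨one_mem R, by simp, fun r _ => by simp⟩
      mul_mem' := by
        rintro a b ⟨ha, ha1, ha2⟩ ⟨hb, hb1, hb2⟩
        refine ⟨mul_mem ha hb, ?_, fun r hr => ?_⟩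
        · have h1 := ha2 b hb
          calc a * b * (a * b) = a * (b * a) * b := by group
            _ = a * (a * b) * b := by rw [h1]
            _ = (a * a) * (b * b) := by group
            _ = 1 := by rw [ha1, hb1, one_mul]
        · rw [← mul_assoc, ha2 r hr, mul_assoc, hb2 r hr, ← mul_assoc]
      inv_mem' := by
        rintro a ⟨ha, ha1, ha2⟩
        have : a⁻¹ = a := inv_eq_of_mul_eq_one_left ha1
        rw [this]
        exact ⟨ha, ha1, ha2⟩ }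
  have hWmem : ∀ w, w ∈ W ↔ w ∈ R ∧ w * w = 1 ∧ ∀ r ∈ R, r * w = w * r := fun w => Iff.rfl
  have hXW : ∀ x ∈ X, ∀ w ∈ W, x * w * x⁻¹ ∈ W := by
    intro x hx w hw
    obtain ⟨hw0, hw1, hw2⟩ := (hWmem w).1 hw
    refine (hWmem _).2 ⟨mem_norm_iff.1 (hXR hx) w hw0, ?_, ?_⟩
    · calc x * w * x⁻¹ * (x * w * x⁻¹) = x * (w * w) * x⁻¹ := by group
        _ = 1 := by rw [hw1]; group
    · intro r hr
      exact (norm_cent (X := R) (hXR hx) (fun y hy => (hw2 y hy).symm) r hr).symm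
  have hZW : V₁ ⊓ V₂ ≤ W := fun u hu => (hWmem u).2 ⟨hZR hu, h.s₁.sq hu.1, fun r hr => h.fixJ hu.1 hu.2 r (hRJ hr)⟩
  have hgX : g ∈ X := memX.2 hg
  -- the case `W = Z`
  have caseZ : W ≤ V₁ ⊓ V₂ → ∀ j ∈ J, g * j * g⁻¹ ∈ J := by
    intro hWZ
    have hXZ : ∀ x ∈ X, ∀ u ∈ V₁ ⊓ V₂, x * u * x⁻¹ ∈ V₁ ⊓ V₂ := fun x hx u hu => hWZ (hXW x hx u (hZW hu))
    have hXZi : ∀ x ∈ X, ∀ u ∈ V₁ ⊓ V₂, x⁻¹ * u * x ∈ V₁ ⊓ V₂ := fun x hx u hu => by
      have := hXZ x⁻¹ (inv_mem hx) u hu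
      rwa [inv_inv] at this
    have hXRi : ∀ x ∈ X, ∀ u ∈ R, x⁻¹ * u * x ∈ R := fun x hx u hu => by
      have := mem_norm_iff.1 (hXR (inv_mem hx)) u hu
      rwa [inv_inv] at this
    let K : Subgroup G :=
      { carrier := {k | k ∈ X ∧ (∀ r ∈ R, k * r * k⁻¹ * r⁻¹ ∈ V₁ ⊓ V₂) ∧ ∀ u ∈ V₁ ⊓ V₂, k * u = u * k}
        one_mem' := ⟨one_mem X, fun r _ => by simp [one_mem], fun u _ => by simp⟩
        mul_mem' := by
          rintro a b ⟨ha, ha1, ha2⟩ ⟨hb, hb1, hb2⟩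
          refine ⟨mul_mem ha hb, fun r hr => ?_, fun u hu => ?_⟩
          · have e : a * b * r * (a * b)⁻¹ * r⁻¹ = (a * (b * r * b⁻¹ * r⁻¹) * a⁻¹) * (a * r * a⁻¹ * r⁻¹) := by group
            rw [e]
            exact mul_mem (hXZ a ha _ (hb1 r hr)) (ha1 r hr)
          · rw [mul_assoc, hb2 u hu, ← mul_assoc, ha2 u hu, mul_assoc]
        inv_mem' := by
          rintro a ⟨ha, ha1, ha2⟩
          refine ⟨inv_mem ha, fun r hr => ?_, fun u hu => ?_⟩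
          · have h1 := inv_mem (ha1 _ (hXRi a ha r hr))
            have e : (a * (a⁻¹ * r * a) * a⁻¹ * (a⁻¹ * r * a)⁻¹)⁻¹ = a⁻¹ * r * a⁻¹⁻¹ * r⁻¹ := by group
            rwa [e] at h1
          · rw [inv_mul_eq_iff_eq_mul, ← mul_assoc, ha2 u hu, mul_inv_cancel_right] }
    have hKmem : ∀ k, k ∈ K ↔ k ∈ X ∧ (∀ r ∈ R, k * r * k⁻¹ * r⁻¹ ∈ V₁ ⊓ V₂) ∧ ∀ u ∈ V₁ ⊓ V₂, k * u = u * k :=
      fun k => Iff.rfl
    have hJK : J ≤ K := by
      intro j hj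
      refine (hKmem j).2 ⟨hJX hj, fun r hr => ?_, fun u hu => h.fixJ hu.1 hu.2 j hj⟩
      have ha := h.ambJ
      have h1 := ha.comm_mem0 hj (hRJ hr)
      exact h1
    have hK2 : IsPGroup 2 K := by
      rintro ⟨k, hk⟩
      obtain ⟨hk0, hk1, hk2⟩ := (hKmem k).1 hk
      have h1 : k * k ∈ R := by
        refine hch (mem_inf.2 ⟨mul_mem hk0 hk0, mem_centralizer_iff.2 fun r hr => ?_⟩)
        have h2 := hk1 r hr
        have h3 := hk2 _ h2
        have h4 : k * r * k⁻¹ * r⁻¹ * (k * r * k⁻¹ * r⁻¹) = 1 := h.s₁.sq h2.1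
        generalize hd : k * r * k⁻¹ * r⁻¹ = d at h3 h4
        have h5 : k * r = d * r * k := by rw [← hd]; group
        calc r * (k * k) = (d * d) * r * (k * k) := by rw [h4, one_mul]
          _ = d * (d * r * k) * k := by group
          _ = d * (k * r) * k := by rw [h5]
          _ = (d * k) * r * k := by group
          _ = (k * d) * r * k := by rw [h3]
          _ = k * (d * r * k) := by group
          _ = k * k * r := by rw [← h5]; group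
      obtain ⟨n, hn⟩ := isPGroup_o2 X ⟨k * k, h1⟩
      refine ⟨n + 1, Subtype.ext ?_⟩
      show k ^ 2 ^ (n + 1) = 1
      have hn' : (k * k) ^ 2 ^ n = 1 := congrArg Subtype.val hn
      rw [pow_succ', pow_mul, pow_two, hn']
    have hKJ := maxJ K hK2 hJK
    intro j hj
    rw [← hKJ] at hj ⊢
    obtain ⟨hj0, hj1, hj2⟩ := (hKmem j).1 hj
    refine (hKmem _).2 ⟨mul_mem (mul_mem hgX hj0) (inv_mem hgX), fun r hr => ?_, fun u hu => ?_⟩
    · have h1 := hXZ g hgX _ (hj1 _ (hXRi g hgX r hr))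
      have e : g * (j * (g⁻¹ * r * g) * j⁻¹ * (g⁻¹ * r * g)⁻¹) * g⁻¹ = g * j * g⁻¹ * r * (g * j * g⁻¹)⁻¹ * r⁻¹ := by
        group
      rwa [e] at h1
    · have h1 := hj2 _ (hXZi g hgX u hu)
      calc g * j * g⁻¹ * u = g * (j * (g⁻¹ * u * g)) * g⁻¹ := by group
        _ = g * ((g⁻¹ * u * g) * j) * g⁻¹ := by rw [h1]
        _ = _ := by group
  -- the case `W ≰ Z`
  have caseV : ∀ {L₁ L₂ V₁ V₂ : Subgroup G} {π₁ π₂ : G → Fin 2 → F}, Dat F L₁ L₂ V₁ V₂ J π₁ π₂ → z ∈ V₁ ⊓ V₂ →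
      W ≤ V₁ → (∃ w ∈ W, w ∉ V₂) → ∀ j ∈ J, g * j * g⁻¹ ∈ J := by
    intro L₁ L₂ V₁ V₂ π₁ π₂ h hz hWV hex
    obtain ⟨w, hw, hwV⟩ := hex
    obtain ⟨hw0, hw1, hw2⟩ := (hWmem w).1 hw
    have hRV : R ≤ V₁ := by
      intro r hr
      obtain ⟨a, ha, b, hb, hab⟩ := h.prod r (hRJ hr)
      have h1 := hw2 r hr
      rw [hab] at h1
      have h2 : w * b = b * w := by
        have h3 : a * (b * w) = a * (w * b) := by
          calc a * (b * w) = a * b * w := by group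
            _ = w * (a * b) := h1
            _ = (w * a) * b := by group
            _ = (a * w) * b := by rw [h.s₁.comm (hWV hw) ha]
            _ = a * (w * b) := by group
        exact (mul_left_cancel h3).symm
      rcases h.co3.cen (hWV hw) hb h2 with h3 | h3
      · exact absurd h3.2 hwV
      · rw [hab]
        exact mul_mem ha h3.1
    have hVR : V₁ ≤ R := by
      intro v hv
      refine hch (mem_inf.2 ⟨hJX (h.s₁.VJ hv), mem_centralizer_iff.2 fun r hr => ?_⟩)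
      exact h.s₁.comm (hRV hr) hv
    have hgV : ∀ v ∈ V₁, g * v * g⁻¹ ∈ V₁ := fun v hv => hRV (mem_norm_iff.1 (hXR hgX) v (hVR hv))
    have hgz : g * z * g⁻¹ = z := by rw [hg, mul_inv_cancel_right]
    have h0 := (h.mem_iff hz.1).1 hz.2
    exact h.s₁.norm_J h.nrm₁ hgV (h.s₁.line h.nrm₁ hgV hz.1 hz1 h0 (by rw [hgz]; exact h0))
  rcases h.le_or (A := W) (fun w hw => hRJ ((hWmem w).1 hw).1) (fun w hw => ((hWmem w).1 hw).2.1) with h1 | h1
  · by_cases h2 : W ≤ V₂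
    · exact caseZ (le_inf h1 h2)
    · obtain ⟨w, hw, hw2⟩ := SetLike.not_le_iff_exists.1 h2
      exact caseV h hz h1 ⟨w, hw, hw2⟩
  · by_cases h2 : W ≤ V₁
    · exact caseZ (le_inf h2 h1)
    · obtain ⟨w, hw, hw2⟩ := SetLike.not_le_iff_exists.1 h2
      exact caseV h.symm ⟨hz.2, hz.1⟩ h1 ⟨w, hw, hw2⟩

end Dat

end Cfsg.Agent.H282
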