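import Cfsg.Agent.H282.Pair

/-!
# helper282: cocycles of `L` with values in `V` trivial on `J` are coboundaries
-/

set_option autoImplicit false
set_option linter.unusedSectionVars false

namespace Cfsg.Agent.H282

open Subgroup Cfsg Cfsg.Agent.Omega.NatPair Cfsg.Agent.Lib.SL2Mat

universe u v

variable {G : Type u} [Group G] {F : Type v} [Field F]

namespace Side

variable {L V J : Subgroup G} {π : G → Fin 2 → F} (s : Side F L V J π)

include s

/-- `C_V(L) = 1` -/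
theorem eq_one_of_cent {c : G} (hc : c ∈ V) (h : ∀ l ∈ L, l * c = c * l) : c = 1 := by
  by_contra hc1
  have key : ∀ w ∈ V, w ≠ 1 → w = c := by
    intro w hw hw1
    obtain ⟨l, hl, e⟩ := s.trans hc hw hc1 hw1
    rw [← e, h l hl, mul_inv_cancel_right]
  obtain ⟨v, hv, e⟩ := s.surj ![1, 0]
  obtain ⟨w, hw, e'⟩ := s.surj ![0, 1]
  have h1 : v ≠ 1 := by
    rintro rfl
    rw [s.map_one] at e
    have := congrFun e 0
    simp at this
  have h2 : w ≠ 1 := by
    rintro rfl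
    rw [s.map_one] at e'
    have := congrFun e' 1
    simp at this
  have h3 := (key v hv h1).trans (key w hw h2).symm
  rw [h3, e'] at e
  have := congrFun e 0
  simp at this

/-- `[c, l] ∈ V` if `c` centralises `V` -/
theorem del_mem {c : G} (hc : ∀ v ∈ V, c * v = v * c) (hn : ∀ l ∈ L, c * l * c⁻¹ ∈ L) {l : G} (hl : l ∈ L) :
    c * l * c⁻¹ * l⁻¹ ∈ V := by
  apply s.ker _ (mul_mem (hn l hl) (inv_mem hl))
  intro v hv
  have h1 : c⁻¹ * (l⁻¹ * v * l) = (l⁻¹ * v * l) * c⁻¹ := by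
    have h2 := hc _ (s.Vn' hl hv)
    rw [inv_mul_eq_iff_eq_mul, ← mul_assoc, h2, mul_inv_cancel_right]
  have h3 := hc v hv
  calc c * l * c⁻¹ * l⁻¹ * v = c * l * (c⁻¹ * (l⁻¹ * v * l)) * l⁻¹ := by group
    _ = c * l * ((l⁻¹ * v * l) * c⁻¹) * l⁻¹ := by rw [h1]
    _ = (c * v) * l * c⁻¹ * l⁻¹ := by group
    _ = (v * c) * l * c⁻¹ * l⁻¹ := by rw [h3]
    _ = v * (c * l * c⁻¹ * l⁻¹) := by group

/-- the square of `c ∈ C(V)` centralises `L` -/
theorem sq_cent [CharP F 2] {c : G} (hc : ∀ v ∈ V, c * v = v * c) (hn : ∀ l ∈ L, c * l * c⁻¹ ∈ L) {l : G}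
    (hl : l ∈ L) : (c * c) * l = l * (c * c) := by
  have h1 := s.del_mem hc hn hl
  have h2 := hc _ h1
  have e : c * l = (c * l * c⁻¹ * l⁻¹) * (l * c) := by group
  have h3 := s.sq h1
  generalize c * l * c⁻¹ * l⁻¹ = d at h2 h3 e
  calc (c * c) * l = c * (c * l) := by rw [mul_assoc]
    _ = (c * d) * (l * c) := by rw [e, mul_assoc]
    _ = d * ((c * l) * c) := by rw [h2]; simp only [mul_assoc]
    _ = (d * d) * (l * (c * c)) := by rw [e]; simp only [mul_assoc]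
    _ = l * (c * c) := by rw [h3, one_mul]

/-- elements centralising `J` are `u r` with `u ∈ C_V(J)`, `r ∈ C(L)` -/
theorem cob [Finite G] [Finite F] [CharP F 2] {c : G} (hc : ∀ j ∈ J, c * j = j * c)
    (hn : ∀ l ∈ L, c * l * c⁻¹ ∈ L) :
    ∃ u ∈ V, (∀ j ∈ J, u * j = j * u) ∧ ∀ l ∈ L, (u⁻¹ * c) * l = l * (u⁻¹ * c) := by
  classical
  have hf : Fact (Nat.Prime 2) := ⟨Nat.prime_two⟩
  have hcV : ∀ v ∈ V, c * v = v * c := fun v hv => hc v (s.VJ hv)
  let K : Subgroup L := J.subgroupOf L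
  have hJ2 : IsPGroup 2 J := by
    rintro ⟨j, hj⟩
    refine ⟨2, Subtype.ext ?_⟩
    show j ^ 2 ^ 2 = 1
    obtain ⟨a, ha⟩ := s.upJ j hj
    have h1 : j * j ∈ V := by
      apply s.ker _ (s.JL (mul_mem hj hj))
      apply s.act_one (s.Vn _ (s.JL (mul_mem hj hj)))
      intro v hv
      rw [s.mat_mul (s.Vn j (s.JL hj)) ha ha v hv, up_mul, CharTwo.add_self_eq_zero, up_zero, ap_one]
    have h2 := s.sq h1
    have e : j ^ 2 ^ 2 = (j * j) * (j * j) := by
      norm_num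
      simp only [pow_succ, pow_zero, one_mul, mul_assoc]
    rw [e, h2]
  have hK : IsPGroup 2 K := hJ2.comap_subtype
  let P : Sylow 2 L :=
    { toSubgroup := K
      isPGroup' := hK
      is_maximal' := by
        intro Q hQ hKQ
        have h1 : Q.map L.subtype = J := s.syl (hQ.map _) (by
          intro j hj
          exact ⟨⟨j, s.JL hj⟩, hKQ (mem_subgroupOf.2 hj), rfl⟩) (map_subtype_le Q)
        refine le_antisymm ?_ hKQ
        intro q hq
        rw [mem_subgroupOf, ← h1]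
        exact ⟨q, hq, rfl⟩ }
  have hodd : ¬ 2 ∣ K.index := P.not_dvd_index
  have _ : Finite (L ⧸ K) := inferInstance
  have _ := Fintype.ofFinite (L ⧸ K)
  let D : L → Fin 2 → F := fun l => π (c * l * c⁻¹ * (l : G)⁻¹)
  have hD : ∀ l m : L, ∀ A : Matrix.SpecialLinearGroup (Fin 2) F,
      (∀ v ∈ V, π (l * v * (l : G)⁻¹) = ap A (π v)) → D (l * m) = D l + ap A (D m) := by
    intro l m A hA
    have h1 := s.del_mem hcV hn l.2
    have h2 := s.del_mem hcV hn m.2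
    show π (c * (l * m : G) * c⁻¹ * (l * m : G)⁻¹) = π (c * l * c⁻¹ * (l : G)⁻¹) + ap A (π (c * m * c⁻¹ * (m : G)⁻¹))
    rw [← hA _ h2, ← s.mul _ h1 _ (s.Vn l l.2 _ h2)]
    congr 1
    group
  have hDJ : ∀ l m : L, m ∈ K → D (l * m) = D l := by
    intro l m hm
    obtain ⟨A, hA⟩ := s.ind l l.2
    rw [hD l m A hA]
    have h1 : D m = 0 := by
      show π (c * m * c⁻¹ * (m : G)⁻¹) = 0
      rw [hc m (mem_subgroupOf.1 hm), mul_inv_cancel_right, mul_inv_cancel, s.map_one]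
    rw [h1]
    have h2 := ap_add A 0 0
    rw [add_zero] at h2
    rw [left_eq_add.1 h2, add_zero]
  let f : L ⧸ K → Fin 2 → F := fun x => D x.out
  have hf' : ∀ l : L, f (l : L ⧸ K) = D l := by
    intro l
    obtain ⟨k, hk⟩ := QuotientGroup.mk_out_eq_mul K l
    show D (l : L ⧸ K).out = D l
    rw [hk, hDJ l k k.2]
  obtain ⟨u, hu, hU⟩ := s.surj (∑ x, f x)
  have key : ∀ l ∈ L, c * l * c⁻¹ * l⁻¹ = u * l * u⁻¹ * l⁻¹ := by
    intro l hl
    obtain ⟨A, hA⟩ := s.ind l hl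
    have h1 : ∑ x, f x = ∑ x : L ⧸ K, f ((⟨l, hl⟩ : L) • x) :=
      (Equiv.sum_comp (MulAction.toPerm (⟨l, hl⟩ : L) : Equiv.Perm (L ⧸ K)) f).symm
    have h2 : ∀ x : L ⧸ K, f ((⟨l, hl⟩ : L) • x) = D ⟨l, hl⟩ + ap A (f x) := by
      intro x
      induction x using QuotientGroup.induction_on with
      | _ m =>
        have e : ((⟨l, hl⟩ : L) • (m : L ⧸ K)) = ((⟨l, hl⟩ * m : L) : L ⧸ K) := rfl
        rw [e, hf', hf', hD _ _ A hA]
    let g : (Fin 2 → F) →+ (Fin 2 → F) := AddMonoidHom.mk' (ap A) (ap_add A)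
    have h3 : ∑ x : L ⧸ K, f ((⟨l, hl⟩ : L) • x) = D ⟨l, hl⟩ + ap A (∑ x, f x) := by
      rw [Finset.sum_congr rfl fun x _ => h2 x, Finset.sum_add_distrib, Finset.sum_const, Finset.card_univ,
        ← Nat.card_eq_fintype_card]
      have h4 : Nat.card (L ⧸ K) = K.index := rfl
      have h5 : K.index • D ⟨l, hl⟩ = D ⟨l, hl⟩ := by
        obtain ⟨k, hk⟩ : Odd K.index := by rwa [← Nat.not_even_iff_odd, even_iff_two_dvd]
        rw [hk, add_smul, one_smul, mul_comm, mul_smul, two_nsmul]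
        have h6 : D ⟨l, hl⟩ + D ⟨l, hl⟩ = 0 := by
          funext i
          exact CharTwo.add_self_eq_zero _
        rw [h6, smul_zero, zero_add]
      rw [h4, h5]
      congr 1
      exact (map_sum g f Finset.univ).symm
    rw [← h1, ← hU] at h3
    have h4 := s.del_mem hcV hn hl
    have h5 := s.Vn l hl _ (inv_mem hu)
    have e : u * l * u⁻¹ * l⁻¹ = u * (l * u⁻¹ * l⁻¹) := by group
    rw [e]
    refine s.eq_of h4 (mul_mem hu h5) ?_
    rw [s.mul u hu _ h5, hA _ (inv_mem hu), s.map_inv hu]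
    have h6 : ap A (- π u) = - ap A (π u) := map_neg g _
    rw [h6]
    show D ⟨l, hl⟩ = _
    rw [eq_add_neg_iff_add_eq]
    exact h3.symm
  have key2 : ∀ l ∈ L, c * l * c⁻¹ = u * l * u⁻¹ := fun l hl => mul_right_cancel (key l hl)
  refine ⟨u, hu, ?_, ?_⟩
  · intro j hj
    have h1 := key2 j (s.JL hj)
    rw [hc j hj, mul_inv_cancel_right] at h1
    exact (mul_inv_eq_iff_eq_mul.1 h1.symm)
  · intro l hl
    have h1 := key2 l hl
    calc u⁻¹ * c * l = u⁻¹ * (c * l * c⁻¹) * c := by group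
      _ = u⁻¹ * (u * l * u⁻¹) * c := by rw [h1]
      _ = l * (u⁻¹ * c) := by group

end Side

end Cfsg.Agent.H282
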