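import Cfsg.Agent.H282.Semi

/-!
# helper282: two rank one parabolics on natural modules sharing `J = V₁V₂`
-/

set_option autoImplicit false
set_option linter.unusedSectionVars false

namespace Cfsg.Agent.H282

open Subgroup Cfsg.Agent.Omega.NatPair Cfsg.Agent.Lib.SL2Mat
open Cfsg.Agent.Omega.CloseA (Co3 Ctx Amb Lin pr)
open Cfsg.Agent.Omega.SQ1.MidOne (Mid)

universe u v w

variable {G : Type u} [Group G] {F : Type v} [Field F]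

/-- the parameter of `b ∈ J` -/
noncomputable def bet (J V : Subgroup G) (π : G → Fin 2 → F) (b : G) : F := by
  classical exact
    if h : b ∈ J ∧ ∃ c : F, ∀ v ∈ V, π (b * v * b⁻¹) = ap (up c) (π v) then h.2.choose else 0

namespace Side

variable {L V J : Subgroup G} {π : G → Fin 2 → F} (s : Side F L V J π)

include s

theorem bet_spec {b : G} (hb : b ∈ J) : ∀ v ∈ V, π (b * v * b⁻¹) = ap (up (bet J V π b)) (π v) := by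
  have h : b ∈ J ∧ ∃ c : F, ∀ v ∈ V, π (b * v * b⁻¹) = ap (up c) (π v) := ⟨hb, s.upJ b hb⟩
  rw [bet, dif_pos h]
  exact h.2.choose_spec

theorem bet_eq {b : G} (hb : b ∈ J) {c : F} (h : ∀ v ∈ V, π (b * v * b⁻¹) = ap (up c) (π v)) :
    bet J V π b = c :=
  up_inj (s.mat_unique (s.bet_spec hb) h)

theorem bet_mul {b c : G} (hb : b ∈ J) (hc : c ∈ J) : bet J V π (b * c) = bet J V π b + bet J V π c := by
  apply s.bet_eq (mul_mem hb hc)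
  have := s.mat_mul (s.Vn c (s.JL hc)) (s.bet_spec hb) (s.bet_spec hc)
  rwa [up_mul] at this

theorem bet_zero_iff {b : G} (hb : b ∈ J) : bet J V π b = 0 ↔ b ∈ V := by
  constructor
  · intro h
    apply s.ker b (s.JL hb)
    apply s.act_one (s.Vn b (s.JL hb))
    intro v hv
    rw [s.bet_spec hb v hv, h, up_zero, ap_one]
  · intro h
    apply s.bet_eq hb
    intro v hv
    rw [s.conj_cancel h hv, up_zero, ap_one]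

theorem card [Finite F] : Nat.card V = Nat.card (Fin 2 → F) := by
  refine Nat.card_congr (Equiv.ofBijective (fun v : V => π v) ⟨?_, ?_⟩)
  · intro v w h
    exact Subtype.ext (s.eq_of v.2 w.2 h)
  · intro x
    obtain ⟨v, hv, h⟩ := s.surj x
    exact ⟨⟨v, hv⟩, h⟩

end Side

/-- two sides with the same `J = V₁V₂` -/
structure Pair (F : Type v) [Field F] (L₁ L₂ V₁ V₂ J : Subgroup G) (π₁ π₂ : G → Fin 2 → F) : Prop where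
  s₁ : Side F L₁ V₁ J π₁
  s₂ : Side F L₂ V₂ J π₂
  prod : ∀ j ∈ J, ∃ a ∈ V₁, ∃ b ∈ V₂, j = a * b

namespace Pair

variable {L₁ L₂ V₁ V₂ J : Subgroup G} {π₁ π₂ : G → Fin 2 → F}

theorem symm (h : Pair F L₁ L₂ V₁ V₂ J π₁ π₂) : Pair F L₂ L₁ V₂ V₁ J π₂ π₁ where
  s₁ := h.s₂
  s₂ := h.s₁
  prod := by
    intro j hj
    obtain ⟨a, ha, b, hb, e⟩ := h.prod j⁻¹ (inv_mem hj)
    exact ⟨b⁻¹, inv_mem hb, a⁻¹, inv_mem ha, by rw [← mul_inv_rev, ← e, inv_inv]⟩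

variable (h : Pair F L₁ L₂ V₁ V₂ J π₁ π₂)

include h

/-- `V₁ ∩ V₂` in coordinates -/
theorem mem_iff {v : G} (hv : v ∈ V₁) : v ∈ V₂ ↔ π₁ v 1 = 0 := by
  rw [← h.s₁.fix_iff hv]
  constructor
  · intro hv2 j hj
    obtain ⟨a, ha, b, hb, rfl⟩ := h.prod j hj
    rw [mul_assoc, h.s₂.comm hb hv2, ← mul_assoc, h.s₁.comm ha hv, mul_assoc]
  · intro hc
    apply h.s₂.ker v (h.s₂.JL (h.s₁.VJ hv))
    intro w hw
    exact (hc w (h.s₂.VJ hw)).symm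

theorem fixJ {v : G} (hv : v ∈ V₁) (hv2 : v ∈ V₂) : ∀ j ∈ J, j * v = v * j :=
  (h.s₁.fix_iff hv).2 ((h.mem_iff hv).1 hv2)

/-- `C_J(J) = V₁ ∩ V₂` -/
theorem mem_of_cent {g : G} (hg : g ∈ J) (hc : ∀ j ∈ J, g * j = j * g) : g ∈ V₁ ⊓ V₂ :=
  ⟨h.s₁.ker g (h.s₁.JL hg) fun v hv => hc v (h.s₁.VJ hv), h.s₂.ker g (h.s₂.JL hg) fun v hv => hc v (h.s₂.VJ hv)⟩

theorem exists_out : ∃ u ∈ V₁, u ∉ V₂ := by
  obtain ⟨u, hu, e⟩ := h.s₁.surj ![0, 1]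
  refine ⟨u, hu, fun h2 => ?_⟩
  have := (h.mem_iff hu).1 h2
  rw [e] at this
  simp at this

theorem exists_z : ∃ z ∈ V₁ ⊓ V₂, z ≠ 1 := by
  obtain ⟨u, hu, e⟩ := h.s₁.surj ![1, 0]
  refine ⟨u, ⟨hu, (h.mem_iff hu).2 (by rw [e]; rfl)⟩, fun h1 => ?_⟩
  rw [h1, h.s₁.map_one] at e
  have := congrFun e 0
  simp at this

/-- the coordinates of the Sylow 2-subgroup of `L₃(F)` -/
theorem co3 [CharP F 2] : Co3 V₁ V₂ (V₁ ⊓ V₂) (fun u => π₁ u 1) (fun v => bet J V₁ π₁ v) (fun d => π₁ d 0) where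
  sq₁ := fun u hu => h.s₁.sq hu
  sq₂ := fun u hu => h.s₂.sq hu
  inf := fun u => mem_inf
  x_mul := fun u hu v hv => by
    show π₁ (u * v) 1 = _
    rw [h.s₁.mul u hu v hv]; rfl
  x_surj := fun a => by
    obtain ⟨u, hu, e⟩ := h.s₁.surj ![0, a]
    exact ⟨u, hu, by show π₁ u 1 = a; rw [e]; rfl⟩
  x_ker := fun u hu => by
    show π₁ u 1 = 0 ↔ _
    rw [mem_inf, ← h.mem_iff hu]
    exact ⟨fun h1 => ⟨hu, h1⟩, fun h1 => h1.2⟩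
  y_mul := fun u hu v hv => h.s₁.bet_mul (h.s₂.VJ hu) (h.s₂.VJ hv)
  y_surj := fun c => by
    obtain ⟨b, hb, hc⟩ := h.s₁.cup c
    have h1 := h.s₁.bet_eq hb hc
    obtain ⟨a, ha, v, hv, rfl⟩ := h.prod b hb
    refine ⟨v, hv, ?_⟩
    rw [h.s₁.bet_mul (h.s₁.VJ ha) (h.s₂.VJ hv), (h.s₁.bet_zero_iff (h.s₁.VJ ha)).2 ha, zero_add] at h1
    exact h1
  y_ker := fun v hv => by
    show bet J V₁ π₁ v = 0 ↔ _
    rw [h.s₁.bet_zero_iff (h.s₂.VJ hv), mem_inf]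
    exact ⟨fun h1 => ⟨h1, hv⟩, fun h1 => h1.1⟩
  z_mul := fun u hu v hv => by
    show π₁ (u * v) 0 = _
    rw [h.s₁.mul u hu.1 v hv.1]; rfl
  z_surj := fun a => by
    obtain ⟨u, hu, e⟩ := h.s₁.surj ![a, 0]
    exact ⟨u, ⟨hu, (h.mem_iff hu).2 (by rw [e]; rfl)⟩, by show π₁ u 0 = a; rw [e]; rfl⟩
  z_inj := fun u hu h0 => h.s₁.inj u hu.1 (ext2 h0 ((h.mem_iff hu.1).1 hu.2))
  mem := fun u hu v hv => by
    have e1 : u * v * u⁻¹ * v⁻¹ = u * (v * u⁻¹ * v⁻¹) := by group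
    refine mem_inf.2 ⟨?_, mul_mem (h.s₂.Vn u (h.s₂.JL (h.s₁.VJ hu)) v hv) (inv_mem hv)⟩
    rw [e1]
    exact mul_mem hu (h.s₁.Vn v (h.s₁.JL (h.s₂.VJ hv)) _ (inv_mem hu))
  com := fun u hu v hv => by
    show π₁ (u * v * u⁻¹ * v⁻¹) 0 = π₁ u 1 * bet J V₁ π₁ v
    have hv' := h.s₁.Vn v (h.s₁.JL (h.s₂.VJ hv)) _ (inv_mem hu)
    have e1 : u * v * u⁻¹ * v⁻¹ = u * (v * u⁻¹ * v⁻¹) := by group
    rw [e1, h.s₁.mul u hu _ hv', h.s₁.bet_spec (h.s₂.VJ hv) _ (inv_mem hu), Pi.add_apply, h.s₁.ap_up_zero,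
      h.s₁.map_inv hu, Pi.neg_apply, Pi.neg_apply]
    have h2 : (2 : F) = 0 := CharTwo.two_eq_zero
    linear_combination (-(bet J V₁ π₁ v * π₁ u 1)) * h2

theorem card_eq [Finite F] : Nat.card V₁ = Nat.card V₂ := by rw [h.s₁.card, h.s₂.card]

theorem ctxJ [CharP F 2] : Ctx J J (V₁ ⊓ V₂) V₁ V₂ where
  le₁ := h.s₁.VJ
  le₂ := h.s₂.VJ
  n₁ := fun s hs => h.s₁.Vn s (h.s₁.JL hs)
  n₂ := fun s hs => h.s₂.Vn s (h.s₂.JL hs)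
  sq₁ := fun u hu => h.s₁.sq hu
  sq₂ := fun u hu => h.s₂.sq hu
  inf := fun u => mem_inf
  sup := fun g => ⟨h.prod g, by
    rintro ⟨a, ha, b, hb, rfl⟩
    exact mul_mem (h.s₁.VJ ha) (h.s₂.VJ hb)⟩
  faith₁ := fun s hs _ => hs
  faith₂ := fun s hs _ => hs

theorem isPGroup_J [CharP F 2] : IsPGroup 2 J := by
  rintro ⟨j, hj⟩
  refine ⟨2, Subtype.ext ?_⟩
  show j ^ 4 = 1
  obtain ⟨a, ha, b, hb, rfl⟩ := h.prod j hj
  have h1 : a * b * (a * b) ∈ V₁ ⊓ V₂ := by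
    have h2 := h.co3.mem a ha b hb
    have e : a * b * (a * b) = a * b * a⁻¹ * b⁻¹ * (b * (a * a) * b) := by group
    rw [e, h.s₁.sq ha, mul_one, h.s₂.sq hb, mul_one]
    exact h2
  have e : (a * b) ^ 4 = (a * b * (a * b)) * (a * b * (a * b)) := by
    simp only [pow_succ, pow_zero, one_mul, mul_assoc]
  rw [e]
  exact h.s₁.sq h1.1

theorem ambJ [Finite G] [Finite F] [CharP F 2] : Amb J J (V₁ ⊓ V₂) (pr V₁ V₂) := h.co3.amb h.ctxJ h.isPGroup_J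

/-- elementary abelian subgroups of `J` -/
theorem le_or [Finite G] [Finite F] [CharP F 2] {A : Subgroup G} (hA : A ≤ J) (h2 : ∀ a ∈ A, a * a = 1) :
    A ≤ V₁ ∨ A ≤ V₂ := by
  obtain ⟨j, hj⟩ := h.ambJ.le_or hA h2
  cases j
  · exact Or.inl hj
  · exact Or.inr hj

/-- involutions of `J` -/
theorem mem_or [Finite G] [Finite F] [CharP F 2] {a : G} (hA : a ∈ J) (h2 : a * a = 1) :
    a ∈ V₁ ∨ a ∈ V₂ := by
  have := h.le_or (A := zpowers a) (by rwa [zpowers_le]) (by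
    rintro _ ⟨n, rfl⟩
    show a ^ n * a ^ n = 1
    rw [← (Commute.refl a).mul_zpow, h2, one_zpow])
  rcases this with h1 | h1
  · exact Or.inl (h1 (mem_zpowers a))
  · exact Or.inr (h1 (mem_zpowers a))

theorem map_sq [CharP F 2] (g : G) : ∀ a ∈ V₁.map (MulAut.conj g).toMonoidHom, a * a = 1 := by
  rintro _ ⟨v, hv, rfl⟩
  rw [← map_mul, h.s₁.sq hv, map_one]

/-- elements of `N(J)` permute `V₁` and `V₂` -/
theorem perm [Finite G] [Finite F] [CharP F 2] {g : G} (hg : ∀ j ∈ J, g * j * g⁻¹ ∈ J) :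
    (∀ v ∈ V₁, g * v * g⁻¹ ∈ V₁) ∨ (∀ v ∈ V₁, g * v * g⁻¹ ∈ V₂) := by
  have := h.le_or (A := V₁.map (MulAut.conj g).toMonoidHom) (by
    rintro _ ⟨v, hv, rfl⟩
    exact hg v (h.s₁.VJ hv)) (h.map_sq g)
  rcases this with h1 | h1
  · exact Or.inl fun v hv => h1 ⟨v, hv, rfl⟩
  · exact Or.inr fun v hv => h1 ⟨v, hv, rfl⟩

/-- elements of `N(J) ∩ N(V₁)` normalise `V₂` -/
theorem perm₁ [Finite G] [Finite F] [CharP F 2] {g : G} (hg : ∀ j ∈ J, g * j * g⁻¹ ∈ J)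
    (h1 : ∀ v ∈ V₁, g * v * g⁻¹ ∈ V₁) : ∀ v ∈ V₂, g * v * g⁻¹ ∈ V₂ := by
  rcases h.symm.perm hg with h2 | h2
  · exact h2
  · exfalso
    obtain ⟨v, hv, hv1⟩ := h.symm.exists_out
    have hN : g ∈ normalizer (V₁ : Set G) := mem_norm_iff.2 h1
    exact hv1 (((mem_normalizer_iff.1 hN) v).2 (h2 v hv))

/-- elements of `N(J)` taking `V₁` to `V₂` take `V₂` to `V₁` -/
theorem perm₂ [Finite G] [Finite F] [CharP F 2] {g : G} (hg : ∀ j ∈ J, g * j * g⁻¹ ∈ J)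
    (h1 : ∀ v ∈ V₁, g * v * g⁻¹ ∈ V₂) : ∀ v ∈ V₂, g * v * g⁻¹ ∈ V₁ := by
  rcases h.symm.perm hg with h2 | h2
  · exfalso
    have e : V₁.map (MulAut.conj g).toMonoidHom = V₂ := by
      refine Subgroup.eq_of_le_of_card_ge ?_ ?_
      · rintro _ ⟨v, hv, rfl⟩
        exact h1 v hv
      · rw [← h.card_eq]
        exact (Nat.card_congr (V₁.equivMapOfInjective _ (MulAut.conj g).injective).toEquiv).le
    have e2 : V₂.map (MulAut.conj g).toMonoidHom = V₂ := by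
      refine Subgroup.eq_of_le_of_card_ge ?_ ?_
      · rintro _ ⟨v, hv, rfl⟩
        exact h2 v hv
      · exact (Nat.card_congr (V₂.equivMapOfInjective _ (MulAut.conj g).injective).toEquiv).le
    have e3 : V₁ = V₂ := Subgroup.map_injective (MulAut.conj g).injective (e.trans e2.symm)
    obtain ⟨v, hv, hv1⟩ := h.exists_out
    exact hv1 (e3 ▸ hv)
  · exact h2

theorem field {F' : Type w} [Field F'] (ρ : F ≃+* F') :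
    Pair F' L₁ L₂ V₁ V₂ J (fun g i => ρ (π₁ g i)) (fun g i => ρ (π₂ g i)) where
  s₁ := h.s₁.field ρ
  s₂ := h.s₂.field ρ
  prod := h.prod

theorem subgroupOf {E : Subgroup G} (h1 : L₁ ≤ E) (h2 : L₂ ≤ E) :
    Pair F (L₁.subgroupOf E) (L₂.subgroupOf E) (V₁.subgroupOf E) (V₂.subgroupOf E) (J.subgroupOf E)
      (fun g : E => π₁ g) (fun g : E => π₂ g) where
  s₁ := h.s₁.subgroupOf h1
  s₂ := h.s₂.subgroupOf h2
  prod := fun j hj => by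
    obtain ⟨a, ha, b, hb, e⟩ := h.prod j (mem_subgroupOf.1 hj)
    exact ⟨⟨a, h1 (h.s₁.VL ha)⟩, mem_subgroupOf.2 ha, ⟨b, h2 (h.s₂.VL hb)⟩, mem_subgroupOf.2 hb, Subtype.ext e⟩

end Pair

/-- two parabolics on natural modules, `C_G(V_i) = V_i`, `N_G(V_i)` normalises `L_i` -/
structure Dat (F : Type v) [Field F] (L₁ L₂ V₁ V₂ J : Subgroup G) (π₁ π₂ : G → Fin 2 → F) : Prop extends
    Pair F L₁ L₂ V₁ V₂ J π₁ π₂ where
  cen₁ : ∀ g, (∀ v ∈ V₁, g * v = v * g) → g ∈ V₁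
  cen₂ : ∀ g, (∀ v ∈ V₂, g * v = v * g) → g ∈ V₂
  nrm₁ : ∀ g, (∀ v ∈ V₁, g * v * g⁻¹ ∈ V₁) → ∀ l ∈ L₁, g * l * g⁻¹ ∈ L₁
  nrm₂ : ∀ g, (∀ v ∈ V₂, g * v * g⁻¹ ∈ V₂) → ∀ l ∈ L₂, g * l * g⁻¹ ∈ L₂

namespace Dat

variable {L₁ L₂ V₁ V₂ J : Subgroup G} {π₁ π₂ : G → Fin 2 → F}

theorem symm (h : Dat F L₁ L₂ V₁ V₂ J π₁ π₂) : Dat F L₂ L₁ V₂ V₁ J π₂ π₁ where
  toPair := h.toPair.symm
  cen₁ := h.cen₂
  cen₂ := h.cen₁
  nrm₁ := h.nrm₂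
  nrm₂ := h.nrm₁

theorem field (h : Dat F L₁ L₂ V₁ V₂ J π₁ π₂) {F' : Type w} [Field F'] (ρ : F ≃+* F') :
    Dat F' L₁ L₂ V₁ V₂ J (fun g i => ρ (π₁ g i)) (fun g i => ρ (π₂ g i)) where
  toPair := h.toPair.field ρ
  cen₁ := h.cen₁
  cen₂ := h.cen₂
  nrm₁ := h.nrm₁
  nrm₂ := h.nrm₂

theorem subgroupOf (h : Dat F L₁ L₂ V₁ V₂ J π₁ π₂) {E : Subgroup G} (h1 : L₁ ≤ E) (h2 : L₂ ≤ E) :
    Dat F (L₁.subgroupOf E) (L₂.subgroupOf E) (V₁.subgroupOf E) (V₂.subgroupOf E) (J.subgroupOf E)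
      (fun g : E => π₁ g) (fun g : E => π₂ g) where
  toPair := h.toPair.subgroupOf h1 h2
  cen₁ := fun g hg => mem_subgroupOf.2 (h.cen₁ g fun v hv =>
    congrArg Subtype.val (hg ⟨v, h1 (h.s₁.VL hv)⟩ (mem_subgroupOf.2 hv)))
  cen₂ := fun g hg => mem_subgroupOf.2 (h.cen₂ g fun v hv =>
    congrArg Subtype.val (hg ⟨v, h2 (h.s₂.VL hv)⟩ (mem_subgroupOf.2 hv)))
  nrm₁ := fun g hg l hl => mem_subgroupOf.2 (h.nrm₁ g (fun v hv =>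
    mem_subgroupOf.1 (hg ⟨v, h1 (h.s₁.VL hv)⟩ (mem_subgroupOf.2 hv))) l (mem_subgroupOf.1 hl))
  nrm₂ := fun g hg l hl => mem_subgroupOf.2 (h.nrm₂ g (fun v hv =>
    mem_subgroupOf.1 (hg ⟨v, h2 (h.s₂.VL hv)⟩ (mem_subgroupOf.2 hv))) l (mem_subgroupOf.1 hl))

variable (h : Dat F L₁ L₂ V₁ V₂ J π₁ π₂) [Finite G] [Finite F] [CharP F 2]

include h

/-- an element of `N(V₁)` acting as an element of `J` lies in `J` -/
theorem mem_J {t : G} (ht : ∀ v ∈ V₁, t * v * t⁻¹ ∈ V₁) {c : F}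
    (hc : ∀ v ∈ V₁, π₁ (t * v * t⁻¹) = ap (up c) (π₁ v)) : t ∈ J := by
  obtain ⟨b, hb, hbc⟩ := h.s₁.cup c
  have h1 : t * b⁻¹ ∈ V₁ := by
    apply h.cen₁
    have hbi : ∀ v ∈ V₁, b⁻¹ * v * b⁻¹⁻¹ ∈ V₁ := h.s₁.Vn _ (inv_mem (h.s₁.JL hb))
    apply h.s₁.act_one
    · intro v hv
      have e : t * b⁻¹ * v * (t * b⁻¹)⁻¹ = t * (b⁻¹ * v * b⁻¹⁻¹) * t⁻¹ := by group
      rw [e]
      exact ht _ (hbi v hv)
    · intro v hv
      rw [h.s₁.mat_mul hbi hc (h.s₁.mat_inv (fun v hv => h.s₁.Vn' (h.s₁.JL hb) hv) hbc) v hv, mul_inv_cancel,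
        ap_one]
  have h2 := mul_mem (h.s₁.VJ h1) hb
  rwa [inv_mul_cancel_right] at h2

/-- 2-elements of `N(V₁) ∩ C(Z)` -/
theorem mem_J_of_cent {t : G} (ht : ∀ v ∈ V₁, t * v * t⁻¹ ∈ V₁) {k : ℕ} (hk : t ^ 2 ^ k = 1)
    (hZ : ∀ z ∈ V₁ ⊓ V₂, t * z = z * t) : t ∈ J := by
  obtain ⟨c, hc⟩ := h.s₁.lin_of h.nrm₁ ht hk fun v hv h0 => hZ v ⟨hv, (h.mem_iff hv).2 h0⟩
  exact h.mem_J ht hc

/-- 2-elements of `N(V₁)` trivial on `V₁/Z` -/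
theorem mem_J_of_quot {t : G} (ht : ∀ v ∈ V₁, t * v * t⁻¹ ∈ V₁) {k : ℕ} (hk : t ^ 2 ^ k = 1)
    (hZ : ∀ v ∈ V₁, t * v * t⁻¹ * v ∈ V₂) : t ∈ J := by
  obtain ⟨c, hc⟩ := h.s₁.lin_of' h.nrm₁ ht hk fun v hv => by
    have h1 := (h.mem_iff (mul_mem (ht v hv) hv)).1 (hZ v hv)
    rw [h.s₁.mul _ (ht v hv) v hv, Pi.add_apply] at h1
    exact CharTwo.add_eq_zero.1 h1
  exact h.mem_J ht hc

theorem pow_of {P : Subgroup G} (hP : IsPGroup 2 P) {t : G} (ht : t ∈ P) : ∃ k : ℕ, t ^ 2 ^ k = 1 := by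
  obtain ⟨k, hk⟩ := hP ⟨t, ht⟩
  exact ⟨k, congrArg Subtype.val hk⟩

/-- `S` normalises `V₁` and `V₂` -/
theorem ctx {P : Subgroup G} (hP : IsPGroup 2 P) (hJ : J ≤ P) (n₁ : ∀ s ∈ P, ∀ a ∈ V₁, s * a * s⁻¹ ∈ V₁)
    (n₂ : ∀ s ∈ P, ∀ a ∈ V₂, s * a * s⁻¹ ∈ V₂) : Ctx P J (V₁ ⊓ V₂) V₁ V₂ where
  le₁ := h.s₁.VJ.trans hJ
  le₂ := h.s₂.VJ.trans hJ
  n₁ := n₁
  n₂ := n₂
  sq₁ := fun u hu => h.s₁.sq hu
  sq₂ := fun u hu => h.s₂.sq hu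
  inf := fun u => mem_inf
  sup := h.ctxJ.sup
  faith₁ := fun s hs h1 => by
    obtain ⟨k, hk⟩ := h.pow_of hP hs
    exact h.mem_J_of_quot (n₁ s hs) hk fun v hv => (h1 v hv).2
  faith₂ := fun s hs h1 => by
    obtain ⟨k, hk⟩ := h.pow_of hP hs
    exact h.symm.mem_J_of_quot (n₂ s hs) hk fun v hv => (h1 v hv).1

/-- a group normalising `V₁`, `V₂` -/
theorem lin₁ {S : Subgroup G} (hS : IsPGroup 2 S) (hJ : J ≤ S) (n₁ : ∀ s ∈ S, ∀ a ∈ V₁, s * a * s⁻¹ ∈ V₁) :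
    Lin S J (V₁ ⊓ V₂) V₁ (normalizer (V₁ : Set G)) L₁ ⊥ where
  SP := fun s hs => mem_norm_iff.2 (n₁ s hs)
  PQ := fun p hp => mem_norm_iff.1 hp
  PL := fun p hp => h.nrm₁ p (mem_norm_iff.1 hp)
  PC := fun p _ c hc => by rw [mem_bot] at hc ⊢; rw [hc]; group
  CD := bot_le
  LS := fun s hs => by
    refine ⟨fun hsL => ?_, fun hsJ => h.s₁.JL hsJ⟩
    have h1 : S ⊓ L₁ = J := h.s₁.syl (hS.to_le inf_le_left) (le_inf hJ h.s₁.JL) inf_le_right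
    rw [← h1]
    exact ⟨hs, hsL⟩
  cov := fun a ha => by
    by_cases ha1 : a = 1
    · exact ⟨1, one_mem _, by rw [ha1]; simp⟩
    · obtain ⟨z, hz, hz1⟩ := h.exists_z
      obtain ⟨l, hl, e⟩ := h.s₁.trans ha hz.1 ha1 hz1
      exact ⟨l, mem_norm_iff.2 (h.s₁.Vn l hl), by rw [e]; exact hz⟩
  line := fun p hp hex d hd hd' => by
    obtain ⟨d₀, hd₀, hnd⟩ := hex
    rw [mem_bot]
    by_contra hd1
    apply hnd
    have hpV := mem_norm_iff.1 hp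
    have h1 := h.s₁.line h.nrm₁ hpV hd.1 hd1 ((h.mem_iff hd.1).1 hd.2) ((h.mem_iff hd'.1).1 hd'.2) d₀ hd₀.1
      ((h.mem_iff hd₀.1).1 hd₀.2)
    exact ⟨hpV _ hd₀.1, (h.mem_iff (hpV _ hd₀.1)).2 h1⟩
  cen := h.cen₁

end Dat

end Cfsg.Agent.H282
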