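import Cfsg.Agent.H282.Red
import Cfsg.Agent.Omega.NatPair.Of

/-!
# helper282: the structure `Side` out of an isomorphism `L/O₂(L) ≅ SL₂(F)` acting naturally on `O₂(L)`
-/

set_option autoImplicit false
set_option linter.unusedSectionVars false

namespace Cfsg.Agent.H282

open Subgroup Cfsg Cfsg.Agent.Omega.NatPair Cfsg.Agent.Lib.SL2Mat Cfsg.Agent.Lib.AutSL2
open Cfsg.Agent.ZN (o2 o2_le isPGroup_o2 le_normalizer_o2 le_o2 normalizer_le_normalizer_o2)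

universe u v

variable {G : Type u} [Group G] [Finite G] {F : Type v} [Field F] [Finite F] [CharP F 2]

/-- coordinates on `O₂(L)` -/
noncomputable def crd (L : Subgroup G) (ψ : Additive ↥(pCore 2 ↥L) ≃+ (Fin 2 → F)) (g : G) : Fin 2 → F := by
  classical exact if h : ∃ v : ↥(pCore 2 ↥L), ((v : ↥L) : G) = g then ψ (Additive.ofMul h.choose) else 0

theorem crd_coe (L : Subgroup G) (ψ : Additive ↥(pCore 2 ↥L) ≃+ (Fin 2 → F)) (v : ↥(pCore 2 ↥L)) :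
    crd L ψ ((v : ↥L) : G) = ψ (Additive.ofMul v) := by
  have h : ∃ w : ↥(pCore 2 ↥L), ((w : ↥L) : G) = ((v : ↥L) : G) := ⟨v, rfl⟩
  rw [crd, dif_pos h]
  congr 2
  exact Subtype.ext (Subtype.ext h.choose_spec)

theorem side_of (L : Subgroup G) (φ : ↥L ⧸ pCore 2 ↥L ≃* Matrix.SpecialLinearGroup (Fin 2) F)
    (ψ : Additive ↥(pCore 2 ↥L) ≃+ (Fin 2 → F))
    (h : ∀ (g : ↥L) (v : ↥(pCore 2 ↥L)),
      ψ (Additive.ofMul ⟨g * v * g⁻¹, Subgroup.Normal.conj_mem inferInstance (v : ↥L) v.2 g⟩)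
        = Matrix.mulVec ((φ (QuotientGroup.mk g) : Matrix.SpecialLinearGroup (Fin 2) F) : Matrix (Fin 2) (Fin 2) F)
          (ψ (Additive.ofMul v)))
    (S : Sylow 2 ↥L) {J : Subgroup G} (hS : (S : Subgroup ↥L).map L.subtype = J) :
    ∃ π : G → Fin 2 → F, Side F L ((pCore 2 ↥L).map L.subtype) J π := by
  have hf : Fact (Nat.Prime 2) := ⟨Nat.prime_two⟩
  let Φ : ↥L →* Matrix.SpecialLinearGroup (Fin 2) F := φ.toMonoidHom.comp (QuotientGroup.mk' (pCore 2 ↥L))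
  have hΦs : Function.Surjective Φ := φ.surjective.comp (QuotientGroup.mk'_surjective _)
  have hΦk : ∀ l, Φ l = 1 → l ∈ pCore 2 ↥L := by
    intro l hl
    have h1 : φ (QuotientGroup.mk l) = 1 := hl
    rwa [map_eq_one_iff φ φ.injective, QuotientGroup.eq_one_iff] at h1
  obtain ⟨g, hg⟩ := MulAction.exists_smul_eq (Matrix.SpecialLinearGroup (Fin 2) F) (S.mapSurjective hΦs) (sylU F 2)
  have hmem : ∀ A : Matrix.SpecialLinearGroup (Fin 2) F, A ∈ upG F ↔ ∃ j ∈ S, g * Φ j * g⁻¹ = A := by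
    intro A
    have h1 : A ∈ upG F ↔ A ∈ g • (S.mapSurjective hΦs) := by
      rw [hg]; exact Iff.rfl
    rw [h1, mem_smul_sylow]
    constructor
    · rintro ⟨j, hj, hjA⟩
      exact ⟨j, hj, by rw [hjA]; group⟩
    · rintro ⟨j, hj, rfl⟩
      exact ⟨j, hj, by group⟩
  have act : ∀ (l : ↥L) (v : ↥(pCore 2 ↥L)), ap g (crd L ψ ((l : G) * ((v : ↥L) : G) * (l : G)⁻¹)) =
      ap (g * Φ l * g⁻¹) (ap g (crd L ψ ((v : ↥L) : G))) := by
    intro l v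
    have e1 : (l : G) * ((v : ↥L) : G) * (l : G)⁻¹ =
      (((⟨l * v * l⁻¹, Subgroup.Normal.conj_mem inferInstance (v : ↥L) v.2 l⟩ : ↥(pCore 2 ↥L)) : ↥L) : G) := rfl
    rw [e1, crd_coe, crd_coe, h l v, ← ap_mul, inv_mul_cancel_right, ap_mul, ← ap_eq_mulVec]
    rfl
  refine ⟨fun x => ap g (crd L ψ x), ?_⟩
  exact
  { JL := by rw [← hS]; exact map_subtype_le _
    VJ := by rw [← hS]; exact map_mono (Cfsg.Agent.Lib.Cores.pCore_le_sylow S)
    Vn := by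
      rintro l hl _ ⟨v, hv, rfl⟩
      exact ⟨⟨l, hl⟩ * v * ⟨l, hl⟩⁻¹, Subgroup.Normal.conj_mem inferInstance v hv _, rfl⟩
    mul := by
      rintro _ ⟨v, hv, rfl⟩ _ ⟨w, hw, rfl⟩
      show ap g (crd L ψ ((((⟨v, hv⟩ * ⟨w, hw⟩ : ↥(pCore 2 ↥L)) : ↥L) : G))) =
        ap g (crd L ψ (((⟨v, hv⟩ : ↥(pCore 2 ↥L)) : ↥L) : G)) + ap g (crd L ψ (((⟨w, hw⟩ : ↥(pCore 2 ↥L)) : ↥L) : G))
      rw [crd_coe, crd_coe, crd_coe, ← ap_add, ofMul_mul, map_add]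
    inj := by
      rintro _ ⟨v, hv, rfl⟩ h0
      have h1 : ap g (crd L ψ (((⟨v, hv⟩ : ↥(pCore 2 ↥L)) : ↥L) : G)) = 0 := h0
      rw [crd_coe] at h1
      have h2 := congrArg (ap g⁻¹) h1
      rw [ap_inv_ap] at h2
      have h3 : ap g⁻¹ (0 : Fin 2 → F) = 0 := by
        have := ap_add g⁻¹ 0 0
        rw [add_zero] at this
        exact left_eq_add.1 this
      rw [h3, map_eq_zero_iff ψ ψ.injective] at h2
      have h4 : (⟨v, hv⟩ : ↥(pCore 2 ↥L)) = 1 := h2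
      have h5 : v = 1 := congrArg Subtype.val h4
      rw [h5]; rfl
    surj := by
      intro x
      obtain ⟨v, hv⟩ := ψ.surjective (ap g⁻¹ x)
      refine ⟨((Additive.toMul v : ↥(pCore 2 ↥L)) : ↥L), ⟨_, (Additive.toMul v).2, rfl⟩, ?_⟩
      rw [crd_coe, ofMul_toMul, hv, ap_ap_inv]
    ind := by
      intro l hl
      refine ⟨g * Φ ⟨l, hl⟩ * g⁻¹, ?_⟩
      rintro _ ⟨v, hv, rfl⟩
      exact act ⟨l, hl⟩ ⟨v, hv⟩
    lift := by
      intro A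
      obtain ⟨l, hl⟩ := hΦs (g⁻¹ * A * g)
      refine ⟨l, l.2, ?_⟩
      rintro _ ⟨v, hv, rfl⟩
      have h1 := act l ⟨v, hv⟩
      rw [hl] at h1
      have e : g * (g⁻¹ * A * g) * g⁻¹ = A := by group
      rw [e] at h1
      exact h1
    ker := by
      intro l hl hc
      refine ⟨⟨l, hl⟩, hΦk _ ?_, rfl⟩
      apply ap_inj
      intro x
      obtain ⟨v, hv⟩ := ψ.surjective x
      have h1 := act ⟨l, hl⟩ (Additive.toMul v)
      have h2 := hc _ ⟨_, (Additive.toMul v).2, rfl⟩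
      have h3 : l * (((Additive.toMul v : ↥(pCore 2 ↥L)) : ↥L) : G) * l⁻¹ =
          (((Additive.toMul v : ↥(pCore 2 ↥L)) : ↥L) : G) := by
        rw [mul_inv_eq_iff_eq_mul]; exact h2
      change ap g (crd L ψ (l * (((Additive.toMul v : ↥(pCore 2 ↥L)) : ↥L) : G) * l⁻¹)) = _ at h1
      rw [h3, crd_coe, ofMul_toMul, hv, ap_mul, ap_mul, ap_inv_ap] at h1
      have h4 := congrArg (ap g⁻¹) h1
      rw [ap_inv_ap, ap_inv_ap] at h4
      rw [ap_one]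
      exact h4.symm
    upJ := by
      intro b hb
      rw [← hS] at hb
      obtain ⟨j, hj, rfl⟩ := hb
      obtain ⟨c, hc⟩ := (hmem (g * Φ j * g⁻¹)).2 ⟨j, hj, rfl⟩
      refine ⟨c, ?_⟩
      rintro _ ⟨v, hv, rfl⟩
      have h1 := act j ⟨v, hv⟩
      rw [← hc] at h1
      exact h1
    cup := by
      intro c
      obtain ⟨j, hj, hc⟩ := (hmem (up c)).1 ⟨c, rfl⟩
      refine ⟨j, by rw [← hS]; exact ⟨j, hj, rfl⟩, ?_⟩
      rintro _ ⟨v, hv, rfl⟩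
      have h1 := act j ⟨v, hv⟩
      rw [hc] at h1
      exact h1 }

open scoped Pointwise in
/-- the pair out of its two sides -/
theorem pair_of {L₁ L₂ V₁ V₂ : Subgroup G} {π₁ π₂ : G → Fin 2 → F} (s₁ : Side F L₁ V₁ (V₁ ⊔ V₂) π₁)
    (s₂ : Side F L₂ V₂ (V₁ ⊔ V₂) π₂) : Pair F L₁ L₂ V₁ V₂ (V₁ ⊔ V₂) π₁ π₂ := by
  refine ⟨s₁, s₂, fun j hj => ?_⟩
  have h5 : V₂ ≤ Subgroup.normalizer (V₁ : Set G) := fun v hv =>
    mem_norm_iff.2 (s₁.Vn v (s₁.JL (Subgroup.mem_sup_right hv)))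
  have h6 : j ∈ (V₁ : Set G) * (V₂ : Set G) := by
    rw [← Subgroup.coe_mul_of_right_le_normalizer_left _ _ h5]; exact hj
  obtain ⟨a, ha, b, hb, hab⟩ := Set.mem_mul.1 h6
  exact ⟨a, ha, b, hb, hab.symm⟩

omit [Finite G] [CharP F 2] in
theorem exists_ne_of_card {F : Type v} [Field F] [Fintype F] (h4 : 4 ≤ Nat.card F) : ∃ ω : F, ω ≠ 0 ∧ ω ≠ 1 := by
  classical
  by_contra hc
  push Not at hc
  have h3 : (Finset.univ : Finset F) ⊆ {0, 1} := by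
    intro a _
    by_cases h0 : a = 0
    · simp [h0]
    · simp [hc a h0]
  have h5 := Finset.card_le_card h3
  have h6 : ({0, 1} : Finset F).card ≤ 2 := Finset.card_le_two
  rw [Finset.card_univ, ← Nat.card_eq_fintype_card] at h5
  omega

end Cfsg.Agent.H282
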