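import Cfsg.Agent.H282.End
import Cfsg.Agent.BabyComp.Sec
import Cfsg.Agent.CpAut.TwoAbs
import Cfsg.Agent.Lib.MinNormal
import Cfsg.Agent.Lib.Cores
import Cfsg.Agent.Lib.GenFitting
import Cfsg.Agent.SignalizersComponents.IntrinsicDiag
import Cfsg.Agent.SignalizersComponents.FStarNormal
import Cfsg.Agent.SignalizersComponents.ComponentNormalize

/-!
# helper282: reduction to simple groups
-/

set_option autoImplicit false
set_option linter.unusedSectionVars false

namespace Cfsg.Agent.H282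

open Subgroup Cfsg Cfsg.Agent.CpAut.TwoAbs

universe u v

section general

variable {G : Type u} [Group G] [Finite G]

/-- centralisers of involutions in groups of characteristic 2 type -/
theorem ct_inv (hG : IsCharacteristicTwoType G) {x : G} (hx : x * x = 1) (hx1 : x ≠ 1) :
    IsOfCharacteristicTwo ↥(centralizer ({x} : Set G)) :=
  (MinSimple.Basic.char2_iff _).2 (MinSimple.Basic.char2_centralizer hG (by rw [pow_two, hx]) hx1)

/-- `K ∩ C(x) = 1` for a normal subgroup `K` of odd order and an involution `x` -/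
theorem odd_fix (hG : IsCharacteristicTwoType G) {K : Subgroup G} (hK : K.Normal) (ho : Odd (Nat.card K)) {x : G}
    (hx : x * x = 1) (hx1 : x ≠ 1) {k : G} (hk : k ∈ K) (hkx : k * x = x * k) : k = 1 := by
  have h1 := MinSimple.Basic.char2_centralizer hG (by rw [pow_two, hx]) hx1
  have h2 : K ⊓ centralizer ({x} : Set G) = ⊥ := by
    refine MinSimple.Basic.eq_bot_of_odd h1 inf_le_right ?_ ?_
    · intro g hg
      rw [mem_norm_iff]
      intro y hy
      exact mem_inf.2 ⟨hK.conj_mem y hy.1 g, mul_mem (mul_mem hg hy.2) (inv_mem hg)⟩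
    · exact Odd.of_dvd_nat ho (card_dvd_of_le inf_le_left)
  have h3 : k ∈ K ⊓ centralizer ({x} : Set G) := mem_inf.2 ⟨hk, mem_centralizer_singleton_iff.2 hkx⟩
  rwa [h2, mem_bot] at h3

/-- a fixed point free involution inverts -/
theorem inverts {K : Subgroup G} (hK : K.Normal) {x : G} (hx : x * x = 1)
    (hfix : ∀ k ∈ K, k * x = x * k → k = 1) {k : G} (hk : k ∈ K) : x * k * x⁻¹ = k⁻¹ := by
  let φ : K →* K := ((MulAut.conjNormal x : MulAut K) : K ≃* K).toMonoidHom
  have hφ : ∀ k : K, ((φ k : K) : G) = x * k * x⁻¹ := fun k => by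
    simp [φ]
  have h1 : MonoidHom.FixedPointFree φ := by
    intro k hk
    apply Subtype.ext
    apply hfix k k.2
    have := hφ k
    rw [hk] at this
    have h2 := congrArg (· * x) this
    simpa [mul_assoc] using h2
  have h2 : Function.Involutive φ := by
    intro k
    apply Subtype.ext
    rw [hφ, hφ]
    have hxi : x⁻¹ = x := inv_eq_of_mul_eq_one_left hx
    rw [hxi]
    calc x * (x * (k : G) * x) * x = (x * x) * k * (x * x) := by simp only [mul_assoc]
      _ = k := by rw [hx]; simp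
  have h3 := h1.coe_eq_inv_of_involutive h2
  have h4 := congrFun h3 ⟨k, hk⟩
  have h5 := hφ ⟨k, hk⟩
  rw [h4] at h5
  exact h5.symm

/-- `O(G) = 1` if `G` contains a four group -/
theorem odd_eq_bot (hG : IsCharacteristicTwoType G) {K : Subgroup G} (hK : K.Normal) (ho : Odd (Nat.card K))
    {x y : G} (hx : x * x = 1) (hx1 : x ≠ 1) (hy : y * y = 1) (hy1 : y ≠ 1) (hxy : x * y = y * x) (hne : x ≠ y) :
    K = ⊥ := by
  have hix : ∀ k ∈ K, x * k * x⁻¹ = k⁻¹ := fun k hk =>
    inverts hK hx (fun k hk hkx => odd_fix hG hK ho hx hx1 hk hkx) hk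
  have hiy : ∀ k ∈ K, y * k * y⁻¹ = k⁻¹ := fun k hk =>
    inverts hK hy (fun k hk hkx => odd_fix hG hK ho hy hy1 hk hkx) hk
  rw [eq_bot_iff]
  intro k hk
  rw [mem_bot]
  refine odd_fix hG hK ho (x := x * y) ?_ ?_ hk ?_
  · calc x * y * (x * y) = x * (y * x) * y := by group
      _ = x * (x * y) * y := by rw [hxy]
      _ = (x * x) * (y * y) := by group
      _ = 1 := by rw [hx, hy, one_mul]
  · intro h1
    apply hne
    rw [eq_inv_of_mul_eq_one_left h1]
    exact inv_eq_of_mul_eq_one_left hy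
  · have h1 : x * (y * k * y⁻¹) * x⁻¹ = k := by
      rw [hiy k hk, hix k⁻¹ (inv_mem hk), inv_inv]
    have h2 : x * y * k = k * (x * y) := by
      have := congrArg (· * (x * y)) h1
      simpa [mul_assoc] using this
    exact h2.symm

/-- normal subgroups of even order of groups of characteristic 2 type -/
theorem ct_normal (hG : IsCharacteristicTwoType G) {E : Subgroup G} (hE : E.Normal) (he : Even (Nat.card E)) :
    IsCharacteristicTwoType ↥E := by
  refine ⟨he, fun U hU hU1 => ?_⟩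
  have hU' : IsPGroup 2 (U.map E.subtype : Subgroup G) := hU.map _
  have hU1' : U.map E.subtype ≠ ⊥ := by
    intro h1
    apply hU1
    rwa [Subgroup.map_eq_bot_iff_of_injective _ E.subtype_injective] at h1
  have h1 := hG.2 _ hU' hU1'
  set M := normalizer ((U.map E.subtype : Subgroup G) : Set G) with hM
  have h2 : (E.subgroupOf M).Normal := inferInstance
  have h3 := ct_of_normal h1 (E.subgroupOf M)
  have hmem : ∀ e : E, e ∈ normalizer (U : Set E) ↔ (e : G) ∈ M := by
    intro e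
    rw [hM, mem_norm_iff, mem_norm_iff]
    constructor
    · rintro h _ ⟨u, hu, rfl⟩
      exact ⟨_, h u hu, rfl⟩
    · intro h u hu
      obtain ⟨w, hw, e'⟩ := h u ⟨u, hu, rfl⟩
      have : w = e * u * e⁻¹ := Subtype.ext e'
      rwa [← this]
  let f : ↥(E.subgroupOf M) ≃* ↥(normalizer (U : Set E)) :=
    { toFun := fun x => ⟨⟨(x : M), mem_subgroupOf.1 x.2⟩, (hmem _).2 (x : M).2⟩
      invFun := fun y => ⟨⟨(y : E), (hmem _).1 y.2⟩, mem_subgroupOf.2 (y : E).2⟩
      left_inv := fun _ => rfl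
      right_inv := fun _ => rfl
      map_mul' := fun _ _ => rfl }
  exact ct_congr f h3

/-- a normal simple nonabelian self-centralising subgroup is `F*(G)` -/
theorem fstar_eq {N : Subgroup G} (hNc : IsComponent N) (hC : centralizer (N : Set G) = ⊥) :
    generalizedFittingSubgroup G = N := by
  apply le_antisymm
  · rw [Cfsg.Agent.Lib.GenFitting.genFitting_def]
    apply sup_le
    · rw [Cfsg.Agent.Lib.GenFitting.layer_def]
      apply sSup_le
      intro K hK
      by_cases hKN : K = N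
      · exact hKN.le
      · have h1 := Cfsg.Agent.SignalizersComponents.ComponentNormalize.component_comm_of_ne hK hNc hKN
        rw [commutator_eq_bot_iff_le_centralizer, hC, le_bot_iff] at h1
        rw [h1]
        exact bot_le
    · have h1 := Cfsg.Agent.SignalizersComponents.FStarNormal.component_comm_fitting hNc
      rw [commutator_comm, commutator_eq_bot_iff_le_centralizer, hC, le_bot_iff] at h1
      rw [h1]
      exact bot_le
  · exact Cfsg.Agent.Lib.GenFitting.component_le_genFitting hNc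

/-- **`F*(G)` is simple** if `G` has characteristic 2 type, `O₂(G) = 1`, and all nontrivial normal subgroups contain
the nonabelian group `J` -/
theorem exists_simple (hG : IsCharacteristicTwoType G)
    (hodd : ∀ K : Subgroup G, K.Normal → Odd (Nat.card K) → K = ⊥) {J : Subgroup G}
    (hJ : ∀ N : Subgroup G, N.Normal → N ≠ ⊥ → J ≤ N) (hna : ∃ a ∈ J, ∃ b ∈ J, a * b ≠ b * a) :
    IsSimpleGroup ↥(generalizedFittingSubgroup G) ∧ centralizer (generalizedFittingSubgroup G : Set G) = ⊥ ∧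
      IsCharacteristicTwoType ↥(generalizedFittingSubgroup G) ∧ (generalizedFittingSubgroup G).Normal ∧
      generalizedFittingSubgroup G ≠ ⊥ := by
  have : Nontrivial G := by
    obtain ⟨a, -, b, -, hab⟩ := hna
    refine ⟨a * b, b * a, hab⟩
  obtain ⟨N, -, hN1, hNn, hNmin⟩ := Cfsg.Agent.Lib.MinNormal.exists_minimal_normal_le (⊤ : Subgroup G) top_ne_bot
  have hN : N.Normal := normalizer_eq_top_iff.1 (top_le_iff.1 hNn)
  have hmin : ∀ K : Subgroup G, K.Normal → K ≤ N → K = ⊥ ∨ K = N := fun K hK hKN =>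
    hNmin K hKN (by rw [normalizer_eq_top_iff.2 hK])
  obtain ⟨m, T, hm, hTN, hTs, hTn, hTc, hTcomm, hTinj, -, hTsup⟩ :=
    Cfsg.Agent.Lib.MinNormal.exists_internal_decomposition N hN1 hmin
  have hZ : N ⊓ centralizer (N : Set G) = ⊥ := by
    by_contra h1
    obtain ⟨a, ha, b, hb, hab⟩ := hna
    have h2 := hJ _ inferInstance h1
    exact hab (mem_centralizer_iff.1 (h2 hb).2 a (h2 ha).1)
  let i₀ : Fin m := ⟨0, hm⟩
  have hTna : ¬ IsMulCommutative ↥(T i₀) := by
    intro hcm
    have h1 : T i₀ ≤ N ⊓ centralizer (N : Set G) := by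
      refine le_inf (hTN i₀) ?_
      rw [le_centralizer_iff, ← hTsup]
      apply iSup_le
      intro j y hy
      rw [mem_centralizer_iff]
      intro a ha
      by_cases hij : i₀ = j
      · rw [← hij] at hy
        exact congrArg Subtype.val (hcm.is_comm.comm (⟨a, ha⟩ : ↥(T i₀)) ⟨y, hy⟩)
      · exact hTcomm i₀ j hij a ha y hy
    rw [hZ, le_bot_iff] at h1
    have h2 := hTs i₀
    rw [h1] at h2
    exact not_nontrivial _ h2.toNontrivial
  have hTcomp : IsComponent (T i₀) := by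
    refine ⟨?_, Cfsg.Agent.SignalizersComponents.IntrinsicDiag.quasisimple_of_simple (hTs i₀) hTna⟩
    have h1 : ((T i₀).subgroupOf N).Normal := normal_subgroupOf_of_le_normalizer (hTn i₀)
    exact IsSubnormal.step (T i₀) N (hTN i₀) hN.isSubnormal h1
  have hT2 : 2 ∣ Nat.card ↥(T i₀) := by
    by_contra h1
    apply hN1
    apply hodd N hN
    have hodd' : ∀ j, (Nat.card ↥(T j)).Coprime 2 := by
      intro j
      obtain ⟨g, hg⟩ := hTc i₀ j
      rw [hg, ← Nat.card_congr ((T i₀).equivMapOfInjective _ (MulAut.conj g).injective).toEquiv]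
      exact ((Nat.Prime.coprime_iff_not_dvd Nat.prime_two).2 h1).symm
    have h2 : ∀ j, (T j).subgroupOf N ≤ pPrimeCore 2 ↥N := by
      intro j
      refine Cfsg.Agent.Lib.Cores.le_pPrimeCore (normal_subgroupOf_of_le_normalizer (hTn j)) ?_
      rw [Nat.card_congr (subgroupOfEquivOfLe (hTN j)).toEquiv]
      exact hodd' j
    have h3 : N ≤ (pPrimeCore 2 ↥N).map N.subtype := by
      conv_lhs => rw [← hTsup]
      apply iSup_le
      intro j t ht
      exact ⟨⟨t, hTN j ht⟩, h2 j (mem_subgroupOf.2 ht), rfl⟩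
    have h4 : (Nat.card ↥N).Coprime 2 := by
      have h5 : N = (pPrimeCore 2 ↥N).map N.subtype := le_antisymm h3 (map_subtype_le _)
      have h6 : Nat.card ↥((pPrimeCore 2 ↥N).map N.subtype) = Nat.card ↥(pPrimeCore 2 ↥N) :=
        (Nat.card_congr ((pPrimeCore 2 ↥N).equivMapOfInjective _ N.subtype_injective).toEquiv).symm
      rw [← h5] at h6
      rw [h6]
      exact Cfsg.Agent.Lib.Cores.pPrimeCore_coprime 2
    exact Nat.coprime_two_right.1 h4
  obtain ⟨hEs, hEn, hEc, -⟩ := Cfsg.Agent.BabyComp.Fix.comp_simple (fun x hx => by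
    have h1 := hx ▸ pow_orderOf_eq_one x
    refine ct_inv hG (by rw [← pow_two]; exact h1) ?_
    rintro rfl
    rw [orderOf_one] at hx
    norm_num at hx) (T i₀) hTcomp hT2
  have hFE := fstar_eq hTcomp hEc
  rw [hFE]
  refine ⟨hEs, hEc, ct_normal hG hEn (even_iff_two_dvd.2 hT2), hEn, ?_⟩
  intro h1
  rw [h1] at hEs
  exact not_nontrivial _ hEs.toNontrivial

end general

namespace Dat

variable {G : Type u} [Group G] {F : Type v} [Field F]
variable {L₁ L₂ V₁ V₂ J : Subgroup G} {π₁ π₂ : G → Fin 2 → F}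
variable (h : Dat F L₁ L₂ V₁ V₂ J π₁ π₂) [Finite G] [Finite F] [CharP F 2]

include h

theorem exists_four : ∃ x ∈ V₁, ∃ y ∈ V₁, x ≠ 1 ∧ y ≠ 1 ∧ x ≠ y := by
  obtain ⟨v, hv, e⟩ := h.s₁.surj ![1, 0]
  obtain ⟨w, hw, e'⟩ := h.s₁.surj ![0, 1]
  refine ⟨v, hv, w, hw, ?_, ?_, ?_⟩
  · rintro rfl
    rw [h.s₁.map_one] at e
    have := congrFun e 0
    simp at this
  · rintro rfl
    rw [h.s₁.map_one] at e'
    have := congrFun e' 1
    simp at this
  · rintro rfl
    rw [e'] at e
    have := congrFun e 0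
    simp at this

theorem odd_normal (hG : IsCharacteristicTwoType G) {K : Subgroup G} (hK : K.Normal) (ho : Odd (Nat.card K)) :
    K = ⊥ := by
  obtain ⟨x, hx, y, hy, hx1, hy1, hxy⟩ := h.exists_four
  exact odd_eq_bot hG hK ho (h.s₁.sq hx) hx1 (h.s₁.sq hy) hy1 (h.s₁.comm hx hy) hxy

/-- nontrivial normal subgroups contain `L₁` and `L₂` -/
theorem le_normal (hG : IsCharacteristicTwoType G) {N : Subgroup G} (hN : N.Normal) (hN1 : N ≠ ⊥) :
    J ≤ N ∧ L₁ ≤ N ∧ L₂ ≤ N := by
  have hf : Fact (Nat.Prime 2) := ⟨Nat.prime_two⟩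
  obtain ⟨S, hS⟩ := h.isPGroup_J.exists_le_sylow
  have h2 : 2 ∣ Nat.card N := by
    by_contra h1
    exact hN1 (h.odd_normal hG hN (by rwa [← Nat.not_even_iff_odd, even_iff_two_dvd]))
  obtain ⟨t, ht⟩ := exists_prime_orderOf_dvd_card' 2 h2
  have ht2 : (t : G) * t = 1 := by
    have := pow_orderOf_eq_one t
    rw [ht, pow_two] at this
    exact congrArg Subtype.val this
  have ht1 : (t : G) ≠ 1 := by
    intro h1
    have : t = 1 := Subtype.ext h1
    rw [this, orderOf_one] at ht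
    norm_num at ht
  have htp : IsPGroup 2 (zpowers (t : G)) := by
    rw [IsPGroup.iff_card]
    refine ⟨1, ?_⟩
    rw [Nat.card_zpowers, pow_one]
    exact orderOf_eq_prime (by rw [pow_two]; exact ht2) ht1
  obtain ⟨g, -, hg⟩ := Cfsg.Agent.Omega.CloseA.exists_conj_le S (H := ⊤) le_top le_top htp
  have hgt := hg t (mem_zpowers _)
  have hgN : g * t * g⁻¹ ∈ N := hN.conj_mem t t.2 g
  have hg1 : g * t * g⁻¹ ≠ 1 := by
    intro h1
    apply ht1
    have : (t : G) = g⁻¹ * (g * t * g⁻¹) * g := by group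
    rw [this, h1]; group
  have hne : N.subgroupOf (S : Subgroup G) ≠ ⊥ := by
    intro h1
    have h3 : (⟨g * t * g⁻¹, hgt⟩ : (S : Subgroup G)) ∈ N.subgroupOf (S : Subgroup G) := mem_subgroupOf.2 hgN
    rw [h1, mem_bot] at h3
    exact hg1 (congrArg Subtype.val h3)
  have hnil : Group.IsNilpotent ↥(S : Subgroup G) := S.isPGroup'.isNilpotent
  have h3 := Cfsg.Agent.Lib.NormalAbelian.normal_inf_center_ne_bot (N.subgroupOf (S : Subgroup G)) hne
  obtain ⟨q, hq, hq1⟩ := (bot_or_exists_ne_one _).resolve_left h3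
  have hqN : (q : G) ∈ N := mem_subgroupOf.1 (mem_inf.1 hq).1
  have hqc : ∀ s ∈ (S : Subgroup G), (q : G) * s = s * q := fun s hs =>
    (congrArg Subtype.val (mem_center_iff.1 (mem_inf.1 hq).2 ⟨s, hs⟩)).symm
  have hq1' : (q : G) ≠ 1 := fun h4 => hq1 (Subtype.ext h4)
  have hqV₁ : (q : G) ∈ V₁ := h.cen₁ _ fun v hv => hqc v (hS (h.s₁.VJ hv))
  have hqV₂ : (q : G) ∈ V₂ := h.cen₂ _ fun v hv => hqc v (hS (h.s₂.VJ hv))
  have h4 : V₁ ≤ N := h.s₁.irr (fun l _ k hk => hN.conj_mem k hk l) hqV₁ hqN hq1'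
  have h5 : V₂ ≤ N := h.s₂.irr (fun l _ k hk => hN.conj_mem k hk l) hqV₂ hqN hq1'
  have hJN : J ≤ N := by
    rw [← h.sup_eq]
    exact sup_le h4 h5
  exact ⟨hJN, h.s₁.le_of_J (fun l _ k hk => hN.conj_mem k hk l) hJN,
    h.s₂.le_of_J (fun l _ k hk => hN.conj_mem k hk l) hJN⟩

theorem nonab : ∃ a ∈ J, ∃ b ∈ J, a * b ≠ b * a := by
  obtain ⟨u, hu, hu2⟩ := h.exists_out
  by_contra hc
  push Not at hc
  apply hu2
  rw [h.mem_iff hu, ← h.s₁.fix_iff hu]
  exact fun j hj => hc j hj u (h.s₁.VJ hu)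

end Dat

/-- **the main theorem**, `q > 4` -/
theorem Dat.main {G : Type u} [Group G] [Finite G] (hG : IsCharacteristicTwoType G)
    {F : Type v} [Field F] [Finite F] [CharP F 2] {L₁ L₂ V₁ V₂ J : Subgroup G} {π₁ π₂ : G → Fin 2 → F}
    (h : Dat F L₁ L₂ V₁ V₂ J π₁ π₂) (hF : 4 < Nat.card F) {F' : Type} [Field F'] (ρ : F ≃+* F') :
    Nonempty (↥(generalizedFittingSubgroup G) ≃* Matrix.ProjectiveSpecialLinearGroup (Fin 3) F) := by
  obtain ⟨hs, -, hct, hn, h1⟩ := exists_simple hG (fun K hK ho => h.odd_normal hG hK ho)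
    (fun N hN hN1 => (h.le_normal hG hN hN1).1) h.nonab
  obtain ⟨-, h2, h3⟩ := h.le_normal hG hn h1
  exact (h.subgroupOf h2 h3).simple hct hF ρ

end Cfsg.Agent.H282
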