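import Cfsg.Agent.H282.Side

/-!
# helper282: the normaliser of `V` acts semilinearly
-/

set_option autoImplicit false
set_option linter.unusedSectionVars false

namespace Cfsg.Agent.H282

open Subgroup Cfsg.Agent.Omega.NatPair Cfsg.Agent.Lib.SL2Mat
open Cfsg.Agent.Omega.SQ1.FFOne (NatSec)
open Cfsg.Agent.MinSimple.VModule (mem_normalizer_of_map_le)

universe u v

theorem eq_one_of_pow {F : Type v} [Field F] [CharP F 2] {a : F} {k : ℕ} (h : a ^ 2 ^ k = 1) : a = 1 := by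
  have h4 : (a - 1) ^ 2 ^ k = 0 := by rw [sub_pow_char_pow, h, one_pow, sub_self]
  exact sub_eq_zero.1 (pow_eq_zero_iff (pow_ne_zero k two_ne_zero) |>.1 h4)

variable {G : Type u} [Group G]

theorem mem_norm_iff [Finite G] {K : Subgroup G} {g : G} : g ∈ normalizer (K : Set G) ↔ ∀ k ∈ K, g * k * g⁻¹ ∈ K := by
  constructor
  · intro h k hk
    exact (mem_normalizer_iff.1 h k).1 hk
  · intro h
    apply mem_normalizer_of_map_le
    rintro _ ⟨k, hk, rfl⟩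
    exact h k hk

namespace Side

variable {F : Type v} [Field F] {L V J : Subgroup G} {π : G → Fin 2 → F} (s : Side F L V J π)

include s

/-- `V` as a natural section for its normaliser -/
def sec [Finite G] (hn : ∀ g, (∀ v ∈ V, g * v * g⁻¹ ∈ V) → ∀ l ∈ L, g * l * g⁻¹ ∈ L) :
    NatSec F (normalizer (V : Set G)) V ⊥ where
  π := π
  map_mul := s.mul
  V0V := bot_le
  ker := fun v hv => by rw [mem_bot]; exact s.eq_zero_iff hv
  surj := s.surj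
  Vn := fun h hh v hv => mem_norm_iff.1 hh v hv
  V0n := fun h _ v hv => by rw [mem_bot] at hv ⊢; rw [hv]; group
  lift := fun A => by
    obtain ⟨l, hl, h⟩ := s.lift A
    exact ⟨l, mem_norm_iff.2 (s.Vn l hl), h⟩
  norm := by
    intro g hg h hh A hA
    obtain ⟨l, hl, hlA⟩ := s.lift A
    have hgl := hn g (mem_norm_iff.1 hg) l hl
    obtain ⟨B, hB⟩ := s.ind _ hgl
    refine ⟨B, fun v hv => ?_⟩
    rw [← hB v hv]
    congr 1
    have hgi := mem_norm_iff.1 (inv_mem hg) v hv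
    rw [inv_inv] at hgi
    have h1 : h * (g⁻¹ * v * g) * h⁻¹ = l * (g⁻¹ * v * g) * l⁻¹ :=
      s.eq_of (mem_norm_iff.1 hh _ hgi) (s.Vn l hl _ hgi) (by rw [hA _ hgi, hlA _ hgi])
    calc g * h * g⁻¹ * v * (g * h * g⁻¹)⁻¹ = g * (h * (g⁻¹ * v * g) * h⁻¹) * g⁻¹ := by group
      _ = g * (l * (g⁻¹ * v * g) * l⁻¹) * g⁻¹ := by rw [h1]
      _ = _ := by group

@[simp] theorem sec_π [Finite G] (hn : ∀ g, (∀ v ∈ V, g * v * g⁻¹ ∈ V) → ∀ l ∈ L, g * l * g⁻¹ ∈ L) :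
    (s.sec hn).π = π := rfl

/-- semilinear -/
theorem semi [Finite G] [Finite F] (hn : ∀ g, (∀ v ∈ V, g * v * g⁻¹ ∈ V) → ∀ l ∈ L, g * l * g⁻¹ ∈ L) {t : G}
    (ht : ∀ v ∈ V, t * v * t⁻¹ ∈ V) : ∃ (σ : F ≃+* F) (p q : Fin 2 → F),
      (∀ v ∈ V, π (t * v * t⁻¹) = σ (π v 0) • p + σ (π v 1) • q) ∧ p ≠ 0 := by
  have htN := mem_norm_iff.2 ht
  obtain ⟨σ, hσ⟩ := (s.sec hn).exists_semi htN
  refine ⟨σ, (s.sec hn).act t ![1, 0], (s.sec hn).act t ![0, 1], fun v hv => ?_, fun h => ?_⟩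
  · have h1 := (s.sec hn).act_π htN hv
    rw [sec_π] at h1
    rw [← h1]
    have e : π v = π v 0 • ![1, 0] + π v 1 • ![0, 1] := by
      apply ext2
      · simp
      · simp
    conv_lhs => rw [e]
    rw [(s.sec hn).act_add htN, hσ, hσ]
  · have h2 := (s.sec hn).act_inv_act htN ![1, 0]
    rw [h, (s.sec hn).act_zero (inv_mem htN)] at h2
    have h3 := congrFun h2 0
    simp at h3

/-- a 2-element of `N(V)` centralising `Z` acts as an element of `J` -/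
theorem lin_of [Finite G] [Finite F] [CharP F 2]
    (hn : ∀ g, (∀ v ∈ V, g * v * g⁻¹ ∈ V) → ∀ l ∈ L, g * l * g⁻¹ ∈ L) {t : G}
    (ht : ∀ v ∈ V, t * v * t⁻¹ ∈ V) {k : ℕ} (hk : t ^ 2 ^ k = 1) (hZ : ∀ v ∈ V, π v 1 = 0 → t * v = v * t) :
    ∃ c : F, ∀ v ∈ V, π (t * v * t⁻¹) = ap (up c) (π v) := by
  obtain ⟨σ, p, q, h, -⟩ := s.semi hn ht
  have h1 : ∀ c : F, σ c • p = ![c, 0] := by
    intro c
    obtain ⟨v, hv, e⟩ := s.surj ![c, 0]
    have h1 := h v hv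
    rw [hZ v hv (by rw [e]; rfl), mul_inv_cancel_right, e] at h1
    simpa using h1.symm
  have hp : p = ![1, 0] := by
    have := h1 1
    rwa [_root_.map_one, one_smul] at this
  have hσ : ∀ c, σ c = c := by
    intro c
    have h2 := congrFun (h1 c) 0
    rw [hp] at h2
    simpa using h2
  have hone : ∀ v ∈ V, π (t * v * t⁻¹) 1 = q 1 * π v 1 := by
    intro v hv
    rw [h v hv, hσ, hσ, hp]
    simp [mul_comm]
  have hpow : ∀ n : ℕ, ∀ v ∈ V, (t ^ n * v * (t ^ n)⁻¹ ∈ V) ∧ π (t ^ n * v * (t ^ n)⁻¹) 1 = q 1 ^ n * π v 1 := by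
    intro n
    induction n with
    | zero => intro v hv; simp [hv]
    | succ n ih =>
      intro v hv
      have e : t ^ (n + 1) * v * (t ^ (n + 1))⁻¹ = t * (t ^ n * v * (t ^ n)⁻¹) * t⁻¹ := by
        rw [pow_succ']; group
      obtain ⟨h1, h2⟩ := ih v hv
      refine ⟨by rw [e]; exact ht _ h1, ?_⟩
      rw [e, hone _ h1, h2, pow_succ']; ring
  have hq : q 1 = 1 := by
    obtain ⟨v, hv, e⟩ := s.surj ![0, 1]
    have h2 := (hpow (2 ^ k) v hv).2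
    rw [hk, one_mul, inv_one, mul_one, e] at h2
    simp at h2
    exact eq_one_of_pow h2.symm
  refine ⟨q 0, fun v hv => ?_⟩
  apply ext2
  · rw [h v hv, hσ, hσ, hp, s.ap_up_zero]
    simp [mul_comm]
  · rw [hone v hv, hq, one_mul, s.ap_up_one]

/-- a 2-element of `N(V)` trivial on `V/Z` acts as an element of `J` -/
theorem lin_of' [Finite G] [Finite F] [CharP F 2]
    (hn : ∀ g, (∀ v ∈ V, g * v * g⁻¹ ∈ V) → ∀ l ∈ L, g * l * g⁻¹ ∈ L) {t : G}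
    (ht : ∀ v ∈ V, t * v * t⁻¹ ∈ V) {k : ℕ} (hk : t ^ 2 ^ k = 1) (hZ : ∀ v ∈ V, π (t * v * t⁻¹) 1 = π v 1) :
    ∃ c : F, ∀ v ∈ V, π (t * v * t⁻¹) = ap (up c) (π v) := by
  obtain ⟨σ, p, q, h, -⟩ := s.semi hn ht
  have h1 : ∀ x : F, σ x * p 1 = 0 := by
    intro c
    obtain ⟨v, hv, e⟩ := s.surj ![c, 0]
    have h1 := hZ v hv
    rw [h v hv, e] at h1
    simpa using h1
  have hp1 : p 1 = 0 := by
    have := h1 1
    rwa [_root_.map_one, one_mul] at this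
  have h2 : ∀ x : F, σ x * q 1 = x := by
    intro c
    obtain ⟨v, hv, e⟩ := s.surj ![0, c]
    have h1 := hZ v hv
    rw [h v hv, e] at h1
    simpa using h1
  have hq1 : q 1 = 1 := by
    have := h2 1
    rwa [_root_.map_one, one_mul] at this
  have hσ : ∀ c, σ c = c := by
    intro c
    have := h2 c
    rwa [hq1, mul_one] at this
  have hone : ∀ v ∈ V, π v 1 = 0 → π (t * v * t⁻¹) 1 = 0 ∧ π (t * v * t⁻¹) 0 = p 0 * π v 0 := by
    intro v hv h0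
    rw [h v hv, hσ, hσ, h0]
    simp [hp1, mul_comm]
  have hpow : ∀ n : ℕ, ∀ v ∈ V, π v 1 = 0 → (t ^ n * v * (t ^ n)⁻¹ ∈ V) ∧ π (t ^ n * v * (t ^ n)⁻¹) 1 = 0 ∧
      π (t ^ n * v * (t ^ n)⁻¹) 0 = p 0 ^ n * π v 0 := by
    intro n
    induction n with
    | zero => intro v hv h0; simp [hv, h0]
    | succ n ih =>
      intro v hv h0
      have e : t ^ (n + 1) * v * (t ^ (n + 1))⁻¹ = t * (t ^ n * v * (t ^ n)⁻¹) * t⁻¹ := by
        rw [pow_succ']; group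
      obtain ⟨h1, h2, h3⟩ := ih v hv h0
      obtain ⟨h4, h5⟩ := hone _ h1 h2
      refine ⟨by rw [e]; exact ht _ h1, by rw [e]; exact h4, ?_⟩
      rw [e, h5, h3, pow_succ']; ring
  have hp : p 0 = 1 := by
    obtain ⟨v, hv, e⟩ := s.surj ![1, 0]
    have h2 := (hpow (2 ^ k) v hv (by rw [e]; rfl)).2.2
    rw [hk, one_mul, inv_one, mul_one, e] at h2
    simp at h2
    exact eq_one_of_pow h2.symm
  refine ⟨q 0, fun v hv => ?_⟩
  apply ext2
  · rw [h v hv, hσ, hσ, s.ap_up_zero]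
    simp [hp, mul_comm]
  · rw [hZ v hv, s.ap_up_one]

/-- the line `Z`: an element of `N(V)` taking a nontrivial element of `Z` to `Z` normalises `Z` -/
theorem line [Finite G] [Finite F] (hn : ∀ g, (∀ v ∈ V, g * v * g⁻¹ ∈ V) → ∀ l ∈ L, g * l * g⁻¹ ∈ L) {t : G}
    (ht : ∀ v ∈ V, t * v * t⁻¹ ∈ V) {z : G} (hz : z ∈ V) (hz1 : z ≠ 1) (hz0 : π z 1 = 0)
    (hz0' : π (t * z * t⁻¹) 1 = 0) : ∀ v ∈ V, π v 1 = 0 → π (t * v * t⁻¹) 1 = 0 := by
  obtain ⟨σ, p, q, h, -⟩ := s.semi hn ht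
  have h1 : π z 0 ≠ 0 := fun h0 => hz1 (s.inj z hz (ext2 h0 hz0))
  have h2 : p 1 = 0 := by
    rw [h z hz, hz0] at hz0'
    simp at hz0'
    exact hz0'.resolve_left h1
  intro v hv hv0
  rw [h v hv, hv0]
  simp [h2]

/-- `C_L(Z) = J` is normalised by the elements of `N(V) ∩ N(Z)` -/
theorem norm_J [Finite G] (hn : ∀ g, (∀ v ∈ V, g * v * g⁻¹ ∈ V) → ∀ l ∈ L, g * l * g⁻¹ ∈ L) {t : G}
    (ht : ∀ v ∈ V, t * v * t⁻¹ ∈ V) (hZ : ∀ v ∈ V, π v 1 = 0 → π (t * v * t⁻¹) 1 = 0) :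
    ∀ j ∈ J, t * j * t⁻¹ ∈ J := by
  -- the group `Z`
  let Z : Subgroup G :=
    { carrier := {v | v ∈ V ∧ π v 1 = 0}
      one_mem' := ⟨one_mem V, by rw [s.map_one]; rfl⟩
      mul_mem' := by
        rintro a b ⟨ha, ha'⟩ ⟨hb, hb'⟩
        exact ⟨mul_mem ha hb, by rw [s.mul a ha b hb, Pi.add_apply, ha', hb', add_zero]⟩
      inv_mem' := by
        rintro a ⟨ha, ha'⟩
        exact ⟨inv_mem ha, by rw [s.map_inv ha, Pi.neg_apply, ha', neg_zero]⟩ }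
  have htZ : t ∈ normalizer (Z : Set G) := mem_norm_iff.2 fun v hv => ⟨ht v hv.1, hZ v hv.1 hv.2⟩
  intro j hj
  apply s.mem_J_of_cent (hn t ht j (s.JL hj))
  intro v hv hv0
  have h1 := mem_norm_iff.1 (inv_mem htZ) v ⟨hv, hv0⟩
  rw [inv_inv] at h1
  have h2 := (s.fix_iff h1.1).2 h1.2 j hj
  calc t * j * t⁻¹ * v = t * (j * (t⁻¹ * v * t)) * t⁻¹ := by group
    _ = t * ((t⁻¹ * v * t) * j) * t⁻¹ := by rw [h2]
    _ = _ := by group

end Side

end Cfsg.Agent.H282
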