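import Mathlib
import Cfsg.Agent.Lib.AutSL2
import Cfsg.Agent.Mrg.Omega.CloseA.Weak
import Cfsg.Agent.Mrg.Omega.SQ1.Choice

/-!
# helper282: one rank one parabolic `L` on its natural module `V`

`Side F L V J π`: `π : V ≃ F²`, `L` acts on `V` as `SL₂(F)` with kernel `V`, and the subgroup `V ≤ J ≤ L` acts as
the group of upper unitriangular matrices.
-/

set_option autoImplicit false
set_option linter.unusedSectionVars false

namespace Cfsg.Agent.H282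

open Subgroup Cfsg.Agent.Omega.NatPair Cfsg.Agent.Lib.SL2Mat Cfsg.Agent.Lib.AutSL2

universe u v w

variable {G : Type u} [Group G]

/-- `L/V = SL₂(F)` on the natural module `V`; `J/V` is the group of upper unitriangular matrices. -/
structure Side (F : Type v) [Field F] (L V J : Subgroup G) (π : G → Fin 2 → F) : Prop where
  JL : J ≤ L
  VJ : V ≤ J
  Vn : ∀ l ∈ L, ∀ v ∈ V, l * v * l⁻¹ ∈ V
  mul : ∀ v ∈ V, ∀ w ∈ V, π (v * w) = π v + π w
  inj : ∀ v ∈ V, π v = 0 → v = 1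
  surj : ∀ x, ∃ v ∈ V, π v = x
  ind : ∀ l ∈ L, ∃ A : Matrix.SpecialLinearGroup (Fin 2) F, ∀ v ∈ V, π (l * v * l⁻¹) = ap A (π v)
  lift : ∀ A : Matrix.SpecialLinearGroup (Fin 2) F, ∃ l ∈ L, ∀ v ∈ V, π (l * v * l⁻¹) = ap A (π v)
  ker : ∀ l ∈ L, (∀ v ∈ V, l * v = v * l) → l ∈ V
  upJ : ∀ b ∈ J, ∃ c : F, ∀ v ∈ V, π (b * v * b⁻¹) = ap (up c) (π v)
  cup : ∀ c : F, ∃ b ∈ J, ∀ v ∈ V, π (b * v * b⁻¹) = ap (up c) (π v)

namespace Side

variable {F : Type v} [Field F] {L V J : Subgroup G} {π : G → Fin 2 → F} (s : Side F L V J π)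

include s

theorem VL : V ≤ L := s.VJ.trans s.JL

theorem map_one : π 1 = 0 := by
  have := s.mul 1 (one_mem V) 1 (one_mem V)
  rw [one_mul] at this
  exact left_eq_add.1 this

theorem map_inv {v : G} (hv : v ∈ V) : π v⁻¹ = - π v := by
  have := s.mul v hv v⁻¹ (inv_mem hv)
  rw [mul_inv_cancel, s.map_one] at this
  exact (neg_eq_of_add_eq_zero_right this.symm).symm

theorem eq_of {v w : G} (hv : v ∈ V) (hw : w ∈ V) (h : π v = π w) : v = w := by
  have h1 := s.inj (v * w⁻¹) (mul_mem hv (inv_mem hw)) (by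
    rw [s.mul v hv _ (inv_mem hw), s.map_inv hw, h, add_neg_cancel])
  exact mul_inv_eq_one.1 h1

theorem eq_zero_iff {v : G} (hv : v ∈ V) : π v = 0 ↔ v = 1 :=
  ⟨s.inj v hv, fun h => by rw [h, s.map_one]⟩

theorem comm {v w : G} (hv : v ∈ V) (hw : w ∈ V) : v * w = w * v :=
  s.eq_of (mul_mem hv hw) (mul_mem hw hv) (by rw [s.mul v hv w hw, s.mul w hw v hv, add_comm])

theorem sq [CharP F 2] {v : G} (hv : v ∈ V) : v * v = 1 :=
  s.inj _ (mul_mem hv hv) (by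
    rw [s.mul v hv v hv]
    funext i
    exact CharTwo.add_self_eq_zero _)

theorem conj_cancel {x y : G} (hx : x ∈ V) (hy : y ∈ V) : x * y * x⁻¹ = y := by
  rw [s.comm hx hy, mul_inv_cancel_right]

/-- an element acting as a matrix acts trivially if and only if the matrix is `1` -/
theorem act_one {l : G} (hn : ∀ v ∈ V, l * v * l⁻¹ ∈ V) (h : ∀ v ∈ V, π (l * v * l⁻¹) = π v) :
    ∀ v ∈ V, l * v = v * l := by
  intro v hv
  have h1 := s.eq_of (hn v hv) hv (h v hv)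
  exact mul_inv_eq_iff_eq_mul.1 h1

/-- uniqueness of the matrix -/
theorem mat_unique {l : G} {A B : Matrix.SpecialLinearGroup (Fin 2) F}
    (hA : ∀ v ∈ V, π (l * v * l⁻¹) = ap A (π v)) (hB : ∀ v ∈ V, π (l * v * l⁻¹) = ap B (π v)) : A = B := by
  apply ap_inj
  intro x
  obtain ⟨v, hv, rfl⟩ := s.surj x
  rw [← hA v hv, hB v hv]

theorem mat_mul {l m : G} (hm : ∀ v ∈ V, m * v * m⁻¹ ∈ V) {A B : Matrix.SpecialLinearGroup (Fin 2) F}
    (hA : ∀ v ∈ V, π (l * v * l⁻¹) = ap A (π v)) (hB : ∀ v ∈ V, π (m * v * m⁻¹) = ap B (π v)) :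
    ∀ v ∈ V, π (l * m * v * (l * m)⁻¹) = ap (A * B) (π v) := by
  intro v hv
  have e : l * m * v * (l * m)⁻¹ = l * (m * v * m⁻¹) * l⁻¹ := by group
  rw [e, hA _ (hm v hv), hB v hv, ap_mul]

theorem mat_one : ∀ v ∈ V, π (1 * v * 1⁻¹) = ap 1 (π v) := by
  intro v _
  rw [ap_one, one_mul, inv_one, mul_one]

theorem mat_inv {l : G} (hl : ∀ v ∈ V, l⁻¹ * v * l ∈ V) {A : Matrix.SpecialLinearGroup (Fin 2) F}
    (hA : ∀ v ∈ V, π (l * v * l⁻¹) = ap A (π v)) : ∀ v ∈ V, π (l⁻¹ * v * l⁻¹⁻¹) = ap A⁻¹ (π v) := by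
  intro v hv
  rw [inv_inv]
  have h1 := hA _ (hl v hv)
  have e : l * (l⁻¹ * v * l) * l⁻¹ = v := by group
  rw [e] at h1
  rw [h1, ap_inv_ap]

theorem Vn' {l v : G} (hl : l ∈ L) (hv : v ∈ V) : l⁻¹ * v * l ∈ V := by
  have := s.Vn l⁻¹ (inv_mem hl) v hv
  rwa [inv_inv] at this

/-- two elements of `L` with the same matrix -/
theorem same {l m : G} (hl : l ∈ L) (hm : m ∈ L) {A : Matrix.SpecialLinearGroup (Fin 2) F}
    (hA : ∀ v ∈ V, π (l * v * l⁻¹) = ap A (π v)) (hB : ∀ v ∈ V, π (m * v * m⁻¹) = ap A (π v)) :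
    l * m⁻¹ ∈ V := by
  apply s.ker _ (mul_mem hl (inv_mem hm))
  apply s.act_one (s.Vn _ (mul_mem hl (inv_mem hm)))
  intro v hv
  rw [s.mat_mul (s.Vn _ (inv_mem hm)) hA (s.mat_inv (fun v hv => s.Vn' hm hv) hB) v hv, mul_inv_cancel, ap_one]

theorem mem_J_of_up {l : G} (hl : l ∈ L) {c : F} (h : ∀ v ∈ V, π (l * v * l⁻¹) = ap (up c) (π v)) : l ∈ J := by
  obtain ⟨b, hb, hbc⟩ := s.cup c
  have h1 := s.VJ (s.same hl (s.JL hb) h hbc)
  have h2 := mul_mem h1 hb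
  rwa [inv_mul_cancel_right] at h2

/-- transitivity of `L` on `V - 1` -/
theorem trans {v w : G} (hv : v ∈ V) (hw : w ∈ V) (hv1 : v ≠ 1) (hw1 : w ≠ 1) : ∃ l ∈ L, l * v * l⁻¹ = w := by
  obtain ⟨A, hA⟩ := exists_ap (x := π v) (y := π w) (fun h => hv1 (s.inj v hv h)) (fun h => hw1 (s.inj w hw h))
  obtain ⟨l, hl, h⟩ := s.lift A
  exact ⟨l, hl, s.eq_of (s.Vn l hl v hv) hw (by rw [h v hv, hA])⟩

/-- irreducibility -/
theorem irr {K : Subgroup G} (hK : ∀ l ∈ L, ∀ k ∈ K, l * k * l⁻¹ ∈ K) {v : G} (hv : v ∈ V) (hvK : v ∈ K)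
    (hv1 : v ≠ 1) : V ≤ K := by
  intro w hw
  by_cases hw1 : w = 1
  · rw [hw1]; exact one_mem K
  · obtain ⟨l, hl, rfl⟩ := s.trans hv hw hv1 hw1
    exact hK l hl v hvK

theorem ap_up_one (c : F) (x : Fin 2 → F) : ap (up c) x 1 = x 1 := by
  rw [ap_one', up_10, up_11]; ring

theorem ap_up_zero (c : F) (x : Fin 2 → F) : ap (up c) x 0 = x 0 + c * x 1 := by
  rw [ap_zero', up_00, up_01]; ring

/-- the fixed points of `J` on `V` -/
theorem fix_iff {v : G} (hv : v ∈ V) : (∀ j ∈ J, j * v = v * j) ↔ π v 1 = 0 := by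
  constructor
  · intro h
    obtain ⟨b, hb, hbc⟩ := s.cup 1
    have h1 := congrFun (hbc v hv) 0
    rw [h b hb, mul_inv_cancel_right, s.ap_up_zero, one_mul] at h1
    exact left_eq_add.1 h1
  · intro h j hj
    obtain ⟨c, hc⟩ := s.upJ j hj
    have h1 := s.eq_of (s.Vn j (s.JL hj) v hv) hv (by
      rw [hc v hv]
      apply ext2
      · rw [s.ap_up_zero, h, mul_zero, add_zero]
      · rw [s.ap_up_one])
    exact mul_inv_eq_iff_eq_mul.1 h1

/-- `C_L(Z) = J` -/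
theorem mem_J_of_cent {l : G} (hl : l ∈ L) (h : ∀ v ∈ V, π v 1 = 0 → l * v = v * l) : l ∈ J := by
  obtain ⟨A, hA⟩ := s.ind l hl
  obtain ⟨v, hv, e⟩ := s.surj ![1, 0]
  have h1 := hA v hv
  rw [h v hv (by rw [e]; rfl), mul_inv_cancel_right, e] at h1
  have e0 : ent A 0 0 = 1 := by
    have := congrFun h1 0
    rw [ap_zero'] at this
    simpa using this.symm
  have e1 : ent A 1 0 = 0 := by
    have := congrFun h1 1
    rw [ap_one'] at this
    simpa using this.symm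
  have e2 : ent A 1 1 = 1 := by
    have := det_eq A
    rw [e0, e1] at this
    simpa using this
  refine s.mem_J_of_up hl (c := ent A 0 1) fun v hv => ?_
  rw [hA v hv]
  congr 1
  exact ext_ent (by simp [e0]) (by simp) (by simp [e1]) (by simp [e2])

/-- `J` is a maximal 2-subgroup of `L` -/
theorem syl [Finite F] [CharP F 2] {P : Subgroup G} (hP : IsPGroup 2 P) (hJP : J ≤ P) (hPL : P ≤ L) : P = J := by
  have hf : Fact (Nat.Prime 2) := ⟨Nat.prime_two⟩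
  let Q : Subgroup (Matrix.SpecialLinearGroup (Fin 2) F) :=
    { carrier := {A | ∃ p ∈ P, ∀ v ∈ V, π (p * v * p⁻¹) = ap A (π v)}
      one_mem' := ⟨1, one_mem P, s.mat_one⟩
      mul_mem' := by
        rintro A B ⟨p, hp, hA⟩ ⟨q, hq, hB⟩
        exact ⟨p * q, mul_mem hp hq, s.mat_mul (s.Vn q (hPL hq)) hA hB⟩
      inv_mem' := by
        rintro A ⟨p, hp, hA⟩
        exact ⟨p⁻¹, inv_mem hp, s.mat_inv (fun v hv => s.Vn' (hPL hp) hv) hA⟩ }
  have hQ : IsPGroup 2 Q := by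
    rintro ⟨A, p, hp, hA⟩
    obtain ⟨n, hn⟩ := hP ⟨p, hp⟩
    refine ⟨n, Subtype.ext ?_⟩
    have hn' : p ^ 2 ^ n = 1 := congrArg Subtype.val hn
    have hpow : ∀ k : ℕ, ∀ v ∈ V, π (p ^ k * v * (p ^ k)⁻¹) = ap (A ^ k) (π v) := by
      intro k
      induction k with
      | zero => intro v hv; rw [pow_zero, pow_zero]; exact s.mat_one v hv
      | succ k ih =>
        intro v hv
        rw [pow_succ, pow_succ]
        exact s.mat_mul (s.Vn p (hPL hp)) ih hA v hv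
    have h1 := hpow (2 ^ n)
    rw [hn'] at h1
    exact s.mat_unique h1 s.mat_one
  have hU : upG F ≤ Q := by
    rintro _ ⟨c, rfl⟩
    obtain ⟨b, hb, h⟩ := s.cup c
    exact ⟨b, hJP hb, h⟩
  have hQU := eq_upG_of_le hQ hU
  refine le_antisymm (fun p hp => ?_) hJP
  obtain ⟨A, hA⟩ := s.ind p (hPL hp)
  have h1 : A ∈ Q := ⟨p, hp, hA⟩
  rw [hQU] at h1
  obtain ⟨c, rfl⟩ := h1
  exact s.mem_J_of_up (hPL hp) hA

/-- `L` is generated by the `L`-conjugates of `J` -/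
theorem le_of_J {K : Subgroup G} (hK : ∀ l ∈ L, ∀ k ∈ K, l * k * l⁻¹ ∈ K) (hJ : J ≤ K) : L ≤ K := by
  obtain ⟨m, hm, hmw⟩ := s.lift (wm 1 one_ne_zero)
  -- the matrices induced by `K ⊓ L`
  let Q : Subgroup (Matrix.SpecialLinearGroup (Fin 2) F) :=
    { carrier := {A | ∃ p ∈ K ⊓ L, ∀ v ∈ V, π (p * v * p⁻¹) = ap A (π v)}
      one_mem' := ⟨1, one_mem _, s.mat_one⟩
      mul_mem' := by
        rintro A B ⟨p, hp, hA⟩ ⟨q, hq, hB⟩
        exact ⟨p * q, mul_mem hp hq, s.mat_mul (s.Vn q hq.2) hA hB⟩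
      inv_mem' := by
        rintro A ⟨p, hp, hA⟩
        exact ⟨p⁻¹, inv_mem hp, s.mat_inv (fun v hv => s.Vn' hp.2 hv) hA⟩ }
  have hup : ∀ c, up c ∈ Q := fun c => by
    obtain ⟨b, hb, h⟩ := s.cup c
    exact ⟨b, ⟨hJ hb, s.JL hb⟩, h⟩
  have hlo : ∀ c, lo c ∈ Q := fun c => by
    obtain ⟨b, hb, h⟩ := s.cup (-c)
    refine ⟨m * b * m⁻¹, mem_inf.2 ⟨hK m hm b (hJ hb), L.mul_mem (L.mul_mem hm (s.JL hb)) (L.inv_mem hm)⟩, ?_⟩
    have h1 := s.mat_mul (s.Vn _ (inv_mem hm)) (s.mat_mul (s.Vn b (s.JL hb)) hmw h)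
      (s.mat_inv (fun v hv => s.Vn' hm hv) hmw)
    have e : wm (1 : F) one_ne_zero * up (-c) * (wm 1 one_ne_zero)⁻¹ = lo c := by
      rw [wm_up, mul_inv_cancel_right]
      simp
    rwa [e] at h1
  intro l hl
  obtain ⟨A, hA⟩ := s.ind l hl
  have hAQ : A ∈ Q := by
    obtain ⟨a, b, c, d, rfl⟩ := exists_up_lo A
    exact mul_mem (mul_mem (mul_mem (hup a) (hlo b)) (hup c)) (hlo d)
  obtain ⟨p, hp, hpA⟩ := hAQ
  have h1 := hJ (s.VJ (s.same hl hp.2 hA hpA))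
  have h2 := mul_mem h1 hp.1
  rwa [inv_mul_cancel_right] at h2

/-- a torus element: it normalises `J` and acts on `Z` without fixed points -/
theorem exists_torus {ω : F} (hω : ω ≠ 0) : ∃ t ∈ L, (∀ j ∈ J, t * j * t⁻¹ ∈ J) ∧
    ∀ v ∈ V, π (t * v * t⁻¹) = ap (dg ω hω) (π v) := by
  obtain ⟨t, ht, h⟩ := s.lift (dg ω hω)
  refine ⟨t, ht, fun j hj => ?_, h⟩
  obtain ⟨c, hc⟩ := s.upJ j hj
  have h1 := s.mat_mul (s.Vn _ (inv_mem ht)) (s.mat_mul (s.Vn j (s.JL hj)) h hc)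
    (s.mat_inv (fun v hv => s.Vn' ht hv) h)
  rw [dg_up, mul_inv_cancel_right] at h1
  exact s.mem_J_of_up (mul_mem (mul_mem ht (s.JL hj)) (inv_mem ht)) h1

/-- transfer to a subgroup -/
theorem subgroupOf {E : Subgroup G} (hLE : L ≤ E) :
    Side F (L.subgroupOf E) (V.subgroupOf E) (J.subgroupOf E) (fun g : E => π g) where
  JL := fun x hx => mem_subgroupOf.2 (s.JL (mem_subgroupOf.1 hx))
  VJ := fun x hx => mem_subgroupOf.2 (s.VJ (mem_subgroupOf.1 hx))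
  Vn := fun l hl v hv => mem_subgroupOf.2 (s.Vn l (mem_subgroupOf.1 hl) v (mem_subgroupOf.1 hv))
  mul := fun v hv w hw => s.mul v (mem_subgroupOf.1 hv) w (mem_subgroupOf.1 hw)
  inj := fun v hv h => Subtype.ext (s.inj v (mem_subgroupOf.1 hv) h)
  surj := fun x => by
    obtain ⟨v, hv, h⟩ := s.surj x
    exact ⟨⟨v, hLE (s.VL hv)⟩, mem_subgroupOf.2 hv, h⟩
  ind := fun l hl => by
    obtain ⟨A, hA⟩ := s.ind l (mem_subgroupOf.1 hl)
    exact ⟨A, fun v hv => hA v (mem_subgroupOf.1 hv)⟩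
  lift := fun A => by
    obtain ⟨l, hl, h⟩ := s.lift A
    exact ⟨⟨l, hLE hl⟩, mem_subgroupOf.2 hl, fun v hv => h v (mem_subgroupOf.1 hv)⟩
  ker := fun l hl h => mem_subgroupOf.2 (s.ker l (mem_subgroupOf.1 hl) fun v hv =>
    congrArg Subtype.val (h ⟨v, hLE (s.VL hv)⟩ (mem_subgroupOf.2 hv)))
  upJ := fun b hb => by
    obtain ⟨c, hc⟩ := s.upJ b (mem_subgroupOf.1 hb)
    exact ⟨c, fun v hv => hc v (mem_subgroupOf.1 hv)⟩
  cup := fun c => by
    obtain ⟨b, hb, h⟩ := s.cup c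
    exact ⟨⟨b, hLE (s.JL hb)⟩, mem_subgroupOf.2 hb, fun v hv => h v (mem_subgroupOf.1 hv)⟩

/-- transport of the field -/
theorem field {F' : Type w} [Field F'] (ρ : F ≃+* F') : Side F' L V J (fun g i => ρ (π g i)) where
  JL := s.JL
  VJ := s.VJ
  Vn := s.Vn
  mul := fun v hv w hw => by
    funext i
    show ρ (π (v * w) i) = ρ (π v i) + ρ (π w i)
    rw [s.mul v hv w hw, Pi.add_apply, map_add]
  inj := fun v hv h => s.inj v hv (by
    funext i
    have := congrFun h i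
    exact (map_eq_zero_iff ρ ρ.injective).1 this)
  surj := fun x => by
    obtain ⟨v, hv, h⟩ := s.surj (fun i => ρ.symm (x i))
    refine ⟨v, hv, ?_⟩
    funext i
    show ρ (π v i) = x i
    rw [h]
    exact ρ.apply_symm_apply _
  ind := fun l hl => by
    obtain ⟨A, hA⟩ := s.ind l hl
    refine ⟨Lib.SL2Mat.mk (ρ (ent A 0 0)) (ρ (ent A 0 1)) (ρ (ent A 1 0)) (ρ (ent A 1 1)) ?_, fun v hv => ?_⟩
    · rw [← map_mul, ← map_mul, ← map_sub, det_eq, _root_.map_one]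
    · apply ext2
      · show ρ (π (l * v * l⁻¹) 0) = _
        rw [hA v hv, ap_zero', ap_zero', map_add, map_mul, map_mul, mk_00, mk_01]
      · show ρ (π (l * v * l⁻¹) 1) = _
        rw [hA v hv, ap_one', ap_one', map_add, map_mul, map_mul, mk_10, mk_11]
  lift := fun A => by
    obtain ⟨l, hl, h⟩ := s.lift (Lib.SL2Mat.mk (ρ.symm (ent A 0 0)) (ρ.symm (ent A 0 1)) (ρ.symm (ent A 1 0))
      (ρ.symm (ent A 1 1)) (by rw [← map_mul, ← map_mul, ← map_sub, det_eq, _root_.map_one]))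
    refine ⟨l, hl, fun v hv => ?_⟩
    apply ext2
    · show ρ (π (l * v * l⁻¹) 0) = _
      rw [h v hv, ap_zero', ap_zero', mk_00, mk_01, map_add, map_mul, map_mul, ρ.apply_symm_apply,
        ρ.apply_symm_apply]
    · show ρ (π (l * v * l⁻¹) 1) = _
      rw [h v hv, ap_one', ap_one', mk_10, mk_11, map_add, map_mul, map_mul, ρ.apply_symm_apply,
        ρ.apply_symm_apply]
  ker := s.ker
  upJ := fun b hb => by
    obtain ⟨c, hc⟩ := s.upJ b hb
    refine ⟨ρ c, fun v hv => ?_⟩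
    apply ext2
    · show ρ (π (b * v * b⁻¹) 0) = _
      rw [hc v hv, ap_zero', ap_zero', up_00, up_01, up_00, up_01, one_mul, one_mul, map_add, map_mul]
    · show ρ (π (b * v * b⁻¹) 1) = _
      rw [hc v hv, ap_one', ap_one', up_10, up_11, up_10, up_11, one_mul, one_mul, zero_mul, zero_mul, zero_add,
        zero_add]
  cup := fun c => by
    obtain ⟨b, hb, h⟩ := s.cup (ρ.symm c)
    refine ⟨b, hb, fun v hv => ?_⟩
    apply ext2
    · show ρ (π (b * v * b⁻¹) 0) = _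
      rw [h v hv, ap_zero', ap_zero', up_00, up_01, up_00, up_01, one_mul, one_mul, map_add, map_mul,
        ρ.apply_symm_apply]
    · show ρ (π (b * v * b⁻¹) 1) = _
      rw [h v hv, ap_one', ap_one', up_10, up_11, up_10, up_11, one_mul, one_mul, zero_mul, zero_mul, zero_add,
        zero_add]

end Side

end Cfsg.Agent.H282
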